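import Cfsg.Agent.H10.J1.Rows

/-!
The row checks, by stretches.
-/

set_option autoImplicit false

namespace Cfsg.Agent.H10.J1

theorem chkA_0 : stretch rowA 0 250 = true := by decide +kernel

theorem chkA_250 : stretch rowA 250 250 = true := by decide +kernel

theorem chkA_500 : stretch rowA 500 250 = true := by decide +kernel

theorem chkA_750 : stretch rowA 750 250 = true := by decide +kernel

theorem chkA_1000 : stretch rowA 1000 250 = true := by decide +kernel

theorem chkA_1250 : stretch rowA 1250 213 = true := by decide +kernel

/-- All rows pass. -/
theorem chkA : ∀ t < 1463, rowA t = true := by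
  intro t ht
  by_cases h0 : t < 250
  · exact of_stretch chkA_0 (by omega) (by omega)
  by_cases h250 : t < 500
  · exact of_stretch chkA_250 (by omega) (by omega)
  by_cases h500 : t < 750
  · exact of_stretch chkA_500 (by omega) (by omega)
  by_cases h750 : t < 1000
  · exact of_stretch chkA_750 (by omega) (by omega)
  by_cases h1000 : t < 1250
  · exact of_stretch chkA_1000 (by omega) (by omega)
  exact of_stretch chkA_1250 (by omega) (by omega)

end Cfsg.Agent.H10.J1
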