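import Cfsg.Agent.H10.J1.Rows

/-!
The row checks, by stretches.
-/

set_option autoImplicit false

namespace Cfsg.Agent.H10.J1

theorem chkOut_0 : stretch rowOut 0 500 = true := by decide +kernel

theorem chkOut_500 : stretch rowOut 500 500 = true := by decide +kernel

theorem chkOut_1000 : stretch rowOut 1000 500 = true := by decide +kernel

theorem chkOut_1500 : stretch rowOut 1500 500 = true := by decide +kernel

theorem chkOut_2000 : stretch rowOut 2000 500 = true := by decide +kernel

theorem chkOut_2500 : stretch rowOut 2500 500 = true := by decide +kernel

theorem chkOut_3000 : stretch rowOut 3000 500 = true := by decide +kernel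

theorem chkOut_3500 : stretch rowOut 3500 500 = true := by decide +kernel

theorem chkOut_4000 : stretch rowOut 4000 500 = true := by decide +kernel

theorem chkOut_4500 : stretch rowOut 4500 500 = true := by decide +kernel

theorem chkOut_5000 : stretch rowOut 5000 500 = true := by decide +kernel

theorem chkOut_5500 : stretch rowOut 5500 352 = true := by decide +kernel

/-- All rows pass. -/
theorem chkOut : ∀ t < 5852, rowOut t = true := by
  intro t ht
  by_cases h0 : t < 500
  · exact of_stretch chkOut_0 (by omega) (by omega)
  by_cases h500 : t < 1000
  · exact of_stretch chkOut_500 (by omega) (by omega)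
  by_cases h1000 : t < 1500
  · exact of_stretch chkOut_1000 (by omega) (by omega)
  by_cases h1500 : t < 2000
  · exact of_stretch chkOut_1500 (by omega) (by omega)
  by_cases h2000 : t < 2500
  · exact of_stretch chkOut_2000 (by omega) (by omega)
  by_cases h2500 : t < 3000
  · exact of_stretch chkOut_2500 (by omega) (by omega)
  by_cases h3000 : t < 3500
  · exact of_stretch chkOut_3000 (by omega) (by omega)
  by_cases h3500 : t < 4000
  · exact of_stretch chkOut_3500 (by omega) (by omega)
  by_cases h4000 : t < 4500
  · exact of_stretch chkOut_4000 (by omega) (by omega)
  by_cases h4500 : t < 5000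
  · exact of_stretch chkOut_4500 (by omega) (by omega)
  by_cases h5000 : t < 5500
  · exact of_stretch chkOut_5000 (by omega) (by omega)
  exact of_stretch chkOut_5500 (by omega) (by omega)

end Cfsg.Agent.H10.J1
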