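import Cfsg.Agent.H10.J1.Rows

/-!
The row checks, by stretches.
-/

set_option autoImplicit false

namespace Cfsg.Agent.H10.J1

theorem chkH_0 : stretch rowH 0 110 = true := by decide +kernel

/-- All rows pass. -/
theorem chkH : ∀ t < 110, rowH t = true := by
  intro t ht
  exact of_stretch chkH_0 (by omega) (by omega)

theorem chkR_0 : stretch rowR 0 200 = true := by decide +kernel

theorem chkR_200 : stretch rowR 200 200 = true := by decide +kernel

theorem chkR_400 : stretch rowR 400 200 = true := by decide +kernel

theorem chkR_600 : stretch rowR 600 200 = true := by decide +kernel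

theorem chkR_800 : stretch rowR 800 200 = true := by decide +kernel

theorem chkR_1000 : stretch rowR 1000 200 = true := by decide +kernel

theorem chkR_1200 : stretch rowR 1200 200 = true := by decide +kernel

theorem chkR_1400 : stretch rowR 1400 196 = true := by decide +kernel

/-- All rows pass. -/
theorem chkR : ∀ t < 1596, rowR t = true := by
  intro t ht
  by_cases h0 : t < 200
  · exact of_stretch chkR_0 (by omega) (by omega)
  by_cases h200 : t < 400
  · exact of_stretch chkR_200 (by omega) (by omega)
  by_cases h400 : t < 600
  · exact of_stretch chkR_400 (by omega) (by omega)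
  by_cases h600 : t < 800
  · exact of_stretch chkR_600 (by omega) (by omega)
  by_cases h800 : t < 1000
  · exact of_stretch chkR_800 (by omega) (by omega)
  by_cases h1000 : t < 1200
  · exact of_stretch chkR_1000 (by omega) (by omega)
  by_cases h1200 : t < 1400
  · exact of_stretch chkR_1200 (by omega) (by omega)
  exact of_stretch chkR_1400 (by omega) (by omega)

theorem chkC_0 : stretch rowC 0 120 = true := by decide +kernel

/-- All rows pass. -/
theorem chkC : ∀ t < 120, rowC t = true := by
  intro t ht
  exact of_stretch chkC_0 (by omega) (by omega)

theorem chkE_0 : stretch rowE 0 8 = true := by decide +kernel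

/-- All rows pass. -/
theorem chkE : ∀ t < 8, rowE t = true := by
  intro t ht
  exact of_stretch chkE_0 (by omega) (by omega)

end Cfsg.Agent.H10.J1
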