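import Mathlib.GroupTheory.OrderOfElement
import Mathlib.GroupTheory.GroupAction.Quotient
import Mathlib.Algebra.Group.Subgroup.Finite
import Mathlib.Tactic.Group

/-!
Closed tables in a finite group: orbits of right multiplication and of conjugation.
-/

set_option autoImplicit false

namespace Cfsg.Agent.H10.J1

variable {G ι : Type*} [Group G]

/-- A table that contains one, is built by the generators and is closed under them is the group
they generate. -/
theorem mem_closure_iff_table [Finite G] {n : ℕ} {e : ℕ → G} {gen : ι → G} (hn : 0 < n)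
    (h0 : e 0 = 1) (hpar : ∀ t < n, 0 < t → ∃ p < t, ∃ k, e t = e p * gen k)
    (hnext : ∀ t < n, ∀ k, ∃ u < n, e t * gen k = e u) (g : G) :
    g ∈ Subgroup.closure (Set.range gen) ↔ ∃ t < n, e t = g := by
  constructor
  · intro hg
    rw [← Subgroup.mem_toSubmonoid, Subgroup.closure_toSubmonoid_of_finite] at hg
    induction hg using Submonoid.closure_induction_right with
    | one => exact ⟨0, hn, h0⟩
    | mul_right x _ y hy ih =>
      obtain ⟨k, rfl⟩ := hy
      obtain ⟨t, ht, rfl⟩ := ih
      obtain ⟨u, hu, he⟩ := hnext t ht k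
      exact ⟨u, hu, he.symm⟩
  · rintro ⟨t, ht, rfl⟩
    induction t using Nat.strong_induction_on with
    | _ t ih =>
      rcases Nat.eq_zero_or_pos t with rfl | htp
      · rw [h0]; exact one_mem _
      · obtain ⟨p, hp, k, hk⟩ := hpar t ht htp
        exact hk ▸ mul_mem (ih p hp (hp.trans ht)) (Subgroup.subset_closure ⟨k, rfl⟩)

/-- A table of conjugates that is closed under the generators is a whole class. -/
theorem isConj_iff_table [Finite G] {n : ℕ} {e : ℕ → G} {gen : ι → G} (hn : 0 < n)
    (hgen : Subgroup.closure (Set.range gen) = ⊤)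
    (hpar : ∀ t < n, 0 < t → ∃ p < t, ∃ k, e p * gen k = gen k * e t)
    (hnext : ∀ t < n, ∀ k, ∃ u < n, e t * gen k = gen k * e u) (g : G) :
    IsConj (e 0) g ↔ ∃ t < n, e t = g := by
  constructor
  · intro hg
    obtain ⟨c, rfl⟩ := isConj_iff.1 hg
    have hc : c⁻¹ ∈ Subgroup.closure (Set.range gen) := hgen ▸ Subgroup.mem_top _
    rw [← Subgroup.mem_toSubmonoid, Subgroup.closure_toSubmonoid_of_finite] at hc
    suffices key : ∀ d ∈ Submonoid.closure (Set.range gen), ∃ t < n, e t = d⁻¹ * e 0 * d by
      simpa using key _ hc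
    intro d hd
    induction hd using Submonoid.closure_induction_right with
    | one => exact ⟨0, hn, by simp⟩
    | mul_right x _ y hy ih =>
      obtain ⟨k, rfl⟩ := hy
      obtain ⟨t, ht, he⟩ := ih
      obtain ⟨u, hu, hue⟩ := hnext t ht k
      refine ⟨u, hu, ?_⟩
      rw [mul_inv_rev, show (gen k)⁻¹ * x⁻¹ * e 0 * (x * gen k)
        = (gen k)⁻¹ * (x⁻¹ * e 0 * x * gen k) by group, ← he, hue]
      group
  · rintro ⟨t, ht, rfl⟩
    induction t using Nat.strong_induction_on with
    | _ t ih =>
      rcases Nat.eq_zero_or_pos t with rfl | htp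
      · exact IsConj.refl _
      · obtain ⟨p, hp, k, hk⟩ := hpar t ht htp
        refine (ih p hp (hp.trans ht)).trans (isConj_iff.2 ⟨(gen k)⁻¹, ?_⟩)
        rw [inv_inv, mul_assoc, hk, inv_mul_cancel_left]

/-- The order of a centraliser times the size of a class. -/
theorem card_centralizer_mul [Finite G] {n : ℕ} {e : ℕ → G}
    (hconj : ∀ g, IsConj (e 0) g ↔ ∃ t < n, e t = g)
    (hinj : ∀ t < n, ∀ u < n, e t = e u → t = u) :
    Nat.card (Subgroup.centralizer ({e 0} : Set G)) * n = Nat.card G := by
  have hset : MulAction.orbit (ConjAct G) (e 0) = Set.range (fun t : Fin n => e t) := by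
    ext g
    rw [ConjAct.mem_orbit_conjAct, isConj_comm, hconj]
    exact ⟨fun ⟨t, ht, h⟩ => ⟨⟨t, ht⟩, h⟩, fun ⟨t, h⟩ => ⟨t, t.2, h⟩⟩
  have h := (MulAction.stabilizer (ConjAct G) (e 0)).card_mul_index
  rw [MulAction.index_stabilizer, hset,
    Set.ncard_range_of_injective (fun t u h => Fin.ext (hinj t t.2 u u.2 h)),
    Nat.card_fin] at h
  rw [Nat.card_congr (ConjAct.toConjAct (G := G)).toEquiv]
  rw [← h]
  congr 1
  refine Nat.card_congr ?_
  exact
    { toFun := fun c => ⟨ConjAct.toConjAct c.1, by
        have hc := Subgroup.mem_centralizer_singleton_iff.1 c.2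
        rw [MulAction.mem_stabilizer_iff, ConjAct.toConjAct_smul, hc, mul_inv_cancel_right]⟩
      invFun := fun c => ⟨ConjAct.ofConjAct c.1, by
        have hc := MulAction.mem_stabilizer_iff.1 c.2
        rw [ConjAct.smul_def, mul_inv_eq_iff_eq_mul] at hc
        exact Subgroup.mem_centralizer_singleton_iff.2 hc⟩
      left_inv := fun c => rfl
      right_inv := fun c => rfl }

/-- Strictly increasing values detect equal indices. -/
theorem strictMono_of_succ {n : ℕ} {S : ℕ → ℕ} (h : ∀ i < n, i + 1 < n → S i < S (i + 1))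
    {i j : ℕ} (hj : j < n) (hij : i < j) : S i < S j := by
  induction j with
  | zero => omega
  | succ k ih =>
    have hk := h k (by omega) hj
    rcases Nat.lt_succ_iff_lt_or_eq.1 hij with h' | rfl
    · exact (ih (by omega) h').trans hk
    · exact hk

/-- Keys with a sorting certificate are injective. -/
theorem key_injOn {n : ℕ} {key S rank inv : ℕ → ℕ}
    (h : ∀ t < n, rank t < n ∧ inv (rank t) = t ∧ key t = S (rank t))
    (hS : ∀ i < n, i + 1 < n → S i < S (i + 1)) {t u : ℕ} (ht : t < n) (hu : u < n)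
    (he : key t = key u) : t = u := by
  obtain ⟨a1, a2, a3⟩ := h t ht
  obtain ⟨b1, b2, b3⟩ := h u hu
  suffices rank t = rank u by rw [← a2, ← b2, this]
  rw [a3, b3] at he
  rcases lt_trichotomy (rank t) (rank u) with hlt | heq | hlt
  · exact absurd he (strictMono_of_succ hS b1 hlt).ne
  · exact heq
  · exact absurd he (strictMono_of_succ hS a1 hlt).ne'

end Cfsg.Agent.H10.J1
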