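import Cfsg.Agent.H10.J1.Mat11
import Cfsg.Agent.H10.J1.Table
import Cfsg.Prelude.Def_Spor_J1
import Mathlib.Data.Matrix.Mul

/-!
Coded matrices as elements of J1, and coded vectors.
-/

set_option autoImplicit false

namespace Cfsg.Agent.H10.J1

open Cfsg

/-- Entry `t` of a table cut into pieces of 40. -/
def get2 (L : List (List ℕ)) (t : ℕ) : ℕ := (L.getD (t / 40) []).getD (t % 40) 0

/-- The matrix packed into one number. -/
def unpack (n : ℕ) : M7 :=
  ⟨n % 5192296858534827628530496329220096,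
    n / 5192296858534827628530496329220096 % 5192296858534827628530496329220096,
    n / 5192296858534827628530496329220096 ^ 2 % 5192296858534827628530496329220096,
    n / 5192296858534827628530496329220096 ^ 3 % 5192296858534827628530496329220096,
    n / 5192296858534827628530496329220096 ^ 4 % 5192296858534827628530496329220096,
    n / 5192296858534827628530496329220096 ^ 5 % 5192296858534827628530496329220096,
    n / 5192296858534827628530496329220096 ^ 6⟩

attribute [irreducible] unpack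

/-- The product of a word in two matrices. -/
def evalW (A B : M7) : List Bool → M7
  | [] => one
  | b :: w => mul (cond b B A) (evalW A B w)

/-- A power. -/
def powM (A : M7) : ℕ → M7
  | 0 => one
  | k + 1 => mul (powM A k) A

/-- The coded matrix is the matrix of the element. -/
def Rep (A : M7) (g : Spor.J1) : Prop :=
  ok A = true ∧ toMat A = ((g : GL (Fin 7) (ZMod 11)) : Matrix (Fin 7) (Fin 7) (ZMod 11))

theorem Rep.one : Rep one 1 := ⟨ok_one, by rw [toMat_one]; rfl⟩

theorem Rep.mul {A B : M7} {g h : Spor.J1} (ha : Rep A g) (hb : Rep B h) :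
    Rep (mul A B) (g * h) :=
  ⟨ok_mul ha.1 hb.1, by rw [toMat_mul ha.1 hb.1, ha.2, hb.2]; rfl⟩

theorem Rep.unique {A : M7} {g h : Spor.J1} (hg : Rep A g) (hh : Rep A h) : g = h :=
  Subtype.ext (Units.ext (hg.2.symm.trans hh.2))

theorem Rep.inj {A B : M7} {g : Spor.J1} (ha : Rep A g) (hb : Rep B g) : A = B :=
  toMat_inj ha.1 hb.1 (ha.2.trans hb.2.symm)

theorem Rep.spec_ok {A : M7} {g : Spor.J1} (h : Rep A g) : ok A = true := h.1

theorem Rep.spec_eq {A : M7} {g : Spor.J1} (h : Rep A g) :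
    toMat A = ((g : GL (Fin 7) (ZMod 11)) : Matrix (Fin 7) (Fin 7) (ZMod 11)) := h.2

theorem Rep.cast {A B : M7} {g : Spor.J1} (h : Rep A g) (e : A = B) : Rep B g := e ▸ h

theorem Rep.pow {A : M7} {g : Spor.J1} (ha : Rep A g) : ∀ k, Rep (powM A k) (g ^ k)
  | 0 => by rw [pow_zero]; exact Rep.one
  | k + 1 => by rw [pow_succ]; exact (Rep.pow ha k).mul ha

theorem Rep.evalW {A B : M7} {g h : Spor.J1} (ha : Rep A g) (hb : Rep B h) :
    ∀ w, ∃ k ∈ Subgroup.closure {g, h}, Rep (evalW A B w) k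
  | [] => ⟨1, one_mem _, Rep.one⟩
  | b :: w => by
    obtain ⟨k, hk, hr⟩ := Rep.evalW ha hb w
    cases b
    · exact ⟨g * k, mul_mem (Subgroup.subset_closure (by simp)) hk, ha.mul hr⟩
    · exact ⟨h * k, mul_mem (Subgroup.subset_closure (by simp)) hk, hb.mul hr⟩

/-- The element of J1 with a given matrix, or an arbitrary one. -/
noncomputable def toJ (A : M7) : Spor.J1 := Classical.epsilon (Rep A)

theorem Rep.toJ {A : M7} {g : Spor.J1} (h : Rep A g) : Rep A (toJ A) :=
  Classical.epsilon_spec (p := Rep A) ⟨g, h⟩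

theorem toJ_eq {A : M7} {g : Spor.J1} (h : Rep A g) : toJ A = g := h.toJ.unique h

/-- A coded vector. -/
def toVec (r : ℕ) : Fin 7 → ZMod 11 := fun j => (dig r j : ZMod 11)

/-- The product of a coded vector with a coded matrix. -/
def vmul (r : ℕ) (A : M7) : ℕ := red (comb r A)

theorem toVec_vmul {r : ℕ} {A : M7} (hr : rowOk r = true) (hA : ok A = true) :
    toVec (vmul r A) = Matrix.vecMul (toVec r) (toMat A) := by
  have ha := (rowOk_iff.1 hr).1
  have hb := fun k => (rowOk_iff.1 (ok_iff.1 hA k)).1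
  have hlt : ∀ j, (∑ k, dig r k * dig (row A k) j) < 65536 := fun j => by
    refine lt_of_le_of_lt (Finset.sum_le_card_nsmul Finset.univ _ 100 fun k _ => ?_) (by simp)
    calc dig r k * dig (row A k) j ≤ 10 * 10 :=
          Nat.mul_le_mul (Nat.le_of_lt_succ (ha k)) (Nat.le_of_lt_succ (hb k j))
      _ = 100 := rfl
  funext j
  rw [toVec, vmul, comb_eq _ hA, red_eq, dig_pk (fun k => by omega), dig_pk hlt]
  simp [Matrix.vecMul, dotProduct, toVec, toMat]

/-- A coded vector times a scalar. -/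
def smulR (c r : ℕ) : ℕ := red (c * r)

theorem toVec_smulR {c r : ℕ} (hc : c < 11) (hr : rowOk r = true) :
    toVec (smulR c r) = (c : ZMod 11) • toVec r := by
  obtain ⟨ha, he⟩ := rowOk_iff.1 hr
  have hp : c * r = pk fun j => c * dig r j := by
    conv_lhs => rw [← he]
    simp only [pk]; ring
  have hlt : ∀ j, c * dig r j < 65536 := fun j => by
    have := Nat.mul_le_mul hc.le (ha j).le
    omega
  funext j
  rw [toVec, smulR, red_eq, hp, dig_pk (fun k => by omega), dig_pk hlt]
  simp [toVec]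

theorem rowOk_vmul {r : ℕ} {A : M7} : rowOk (vmul r A) = true :=
  rowOk_iff.2 ⟨fun j => by rw [vmul, red_eq, dig_pk fun k => by omega]; exact Nat.mod_lt _ (by decide),
    by rw [vmul, red_eq, dig_pk fun k => by omega]⟩

theorem toVec_inj {r s : ℕ} (hr : rowOk r = true) (hs : rowOk s = true)
    (h : toVec r = toVec s) : r = s := by
  obtain ⟨ha, ea⟩ := rowOk_iff.1 hr
  obtain ⟨hb, eb⟩ := rowOk_iff.1 hs
  rw [← ea, ← eb]
  congr 1
  funext j
  have := congrArg ZMod.val (congrFun h j)
  rwa [toVec, toVec, ZMod.val_natCast_of_lt (ha j), ZMod.val_natCast_of_lt (hb j)] at this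

attribute [local irreducible] mul red comb toMat

/-- One row of a table of right multiplication. -/
def tblRow (n : ℕ) (E : ℕ → M7) (gs : List M7) (par pg : ℕ → ℕ) (next : ℕ → ℕ) (t : ℕ) : Bool :=
  (if t = 0 then E 0 == one else
    Nat.blt (par t) t && Nat.blt (pg t) gs.length &&
      mul (E (par t)) (gs.getD (pg t) one) == E t) &&
  (List.range gs.length).all fun k => Nat.blt (next (gs.length * t + k)) n &&
    mul (E t) (gs.getD k one) == E (next (gs.length * t + k))

/-- One row of a table of conjugates. -/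
def clsRow (n : ℕ) (E : ℕ → M7) (gs : List M7) (par pg : ℕ → ℕ) (next : ℕ → ℕ) (t : ℕ) : Bool :=
  ok (E t) &&
  (t == 0 || (Nat.blt (par t) t && Nat.blt (pg t) gs.length &&
      mul (E (par t)) (gs.getD (pg t) one) ==
        mul (gs.getD (pg t) one) (E t))) &&
  (List.range gs.length).all fun k => Nat.blt (next (gs.length * t + k)) n &&
    mul (E t) (gs.getD k one) ==
      mul (gs.getD k one) (E (next (gs.length * t + k)))

instance : LawfulBEq M7 where
  rfl := beq_self_eq_true _
  eq_of_beq := of_decide_eq_true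

/-- What the tables use of a coding of group elements. -/
structure Coding (G : Type*) [Group G] (R : M7 → G → Prop) (el : M7 → G) : Prop where
  one : R one 1
  mul : ∀ {A B : M7} {g h : G}, R A g → R B h → R (mul A B) (g * h)
  unique : ∀ {A : M7} {g h : G}, R A g → R A h → g = h
  el_spec : ∀ {A : M7} {g : G}, R A g → R A (el A)
  conj : ∀ {A K B : M7} {g k : G}, R A g → R K k → ok B = true →
    J1.mul A K = J1.mul K B → R B (k⁻¹ * g * k)

variable {G : Type*} [Group G] {R : M7 → G → Prop} {el : M7 → G}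

theorem Coding.el_eq (hR : Coding G R el) {A : M7} {g : G} (h : R A g) : el A = g :=
  hR.unique (hR.el_spec h) h

theorem getD_mem_range {gs : List M7} {gen : Fin gs.length → G}
    (hg : ∀ k : Fin gs.length, R (gs.getD k one) (gen k)) {k : ℕ} (hk : k < gs.length) :
    R (gs.getD k one) (gen ⟨k, hk⟩) := hg ⟨k, hk⟩

/-- A checked table of right multiplication consists of elements of J1 and is the group generated. -/
theorem tbl_spec [Finite G] (hR : Coding G R el) {n : ℕ} {E : ℕ → M7} {par pg next : ℕ → ℕ} {gs : List M7} (gen : Fin gs.length → G)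
    (hg : ∀ k : Fin gs.length, R (gs.getD k one) (gen k))
    (hn : 0 < n) (h : ∀ t < n, tblRow n E gs par pg next t = true) :
    (∀ t < n, R (E t) (el (E t))) ∧
      ∀ g, g ∈ Subgroup.closure (Set.range gen) ↔ ∃ t < n, el (E t) = g := by
  have hrep : ∀ t < n, ∃ g, R (E t) g := by
    intro t
    induction t using Nat.strong_induction_on with
    | _ t ih =>
      intro ht
      have ht' := h t ht
      rw [tblRow, Bool.and_eq_true] at ht'
      rcases Nat.eq_zero_or_pos t with rfl | htp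
      · rw [if_pos rfl] at ht'
        exact ⟨1, (beq_iff_eq.1 ht'.1).symm ▸ hR.one⟩
      · rw [if_neg htp.ne', Bool.and_eq_true, Bool.and_eq_true, Nat.blt_eq, Nat.blt_eq,
          beq_iff_eq] at ht'
        obtain ⟨⟨⟨hp, hk⟩, he⟩, -⟩ := ht'
        obtain ⟨g, hgp⟩ := ih _ hp (hp.trans ht)
        exact ⟨_, he ▸ hR.mul hgp (getD_mem_range hg hk)⟩
  have hrep' : ∀ t < n, R (E t) (el (E t)) := fun t ht =>
    hR.el_spec (hrep t ht).choose_spec
  refine ⟨hrep', mem_closure_iff_table hn ?_ (fun t ht htp => ?_) (fun t ht k => ?_)⟩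
  · have h0 := h 0 hn
    rw [tblRow, if_pos rfl, Bool.and_eq_true, beq_iff_eq] at h0
    exact hR.el_eq (h0.1.symm ▸ hR.one)
  · have ht' := h t ht
    rw [tblRow, if_neg htp.ne', Bool.and_eq_true, Bool.and_eq_true, Bool.and_eq_true,
      Nat.blt_eq, Nat.blt_eq, beq_iff_eq] at ht'
    obtain ⟨⟨⟨hp, hk⟩, he⟩, -⟩ := ht'
    refine ⟨_, hp, ⟨_, hk⟩, hR.el_eq ?_⟩
    exact he ▸ hR.mul (hrep' _ (hp.trans ht)) (getD_mem_range hg hk)
  · have ht' := h t ht
    rw [tblRow, Bool.and_eq_true, List.all_eq_true] at ht'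
    have hk := ht'.2 k (List.mem_range.2 k.2)
    rw [Bool.and_eq_true, Nat.blt_eq, beq_iff_eq] at hk
    exact ⟨_, hk.1, (hR.el_eq (hk.2 ▸ hR.mul (hrep' t ht) (hg k))).symm⟩

/-- A checked table of conjugates is a class. -/
theorem cls_spec [Finite G] (hR : Coding G R el) {n : ℕ} {E : ℕ → M7} {par pg next : ℕ → ℕ} {gs : List M7} (gen : Fin gs.length → G)
    (hgen : Subgroup.closure (Set.range gen) = ⊤)
    (hg : ∀ k : Fin gs.length, R (gs.getD k one) (gen k)) {a : G}
    (ha : R (E 0) a)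
    (hn : 0 < n) (h : ∀ t < n, clsRow n E gs par pg next t = true) :
    (∀ t < n, R (E t) (el (E t))) ∧
      ∀ g, IsConj a g ↔ ∃ t < n, el (E t) = g := by
  have hrow : ∀ t < n, ok (E t) = true ∧
      (0 < t → ∃ p < t, ∃ k : Fin gs.length, mul (E p) (gs.getD k one) =
        mul (gs.getD k one) (E t)) ∧
      ∀ k : Fin gs.length, ∃ u < n, mul (E t) (gs.getD k one) =
        mul (gs.getD k one) (E u) := by
    intro t ht
    have ht' := h t ht
    simp only [clsRow, Bool.and_eq_true, Bool.or_eq_true, beq_iff_eq, Nat.blt_eq,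
      List.all_eq_true, List.mem_range] at ht'
    obtain ⟨⟨hok, hp⟩, hnext⟩ := ht'
    refine ⟨hok, fun htp => ?_, fun k => ⟨_, (hnext k k.2).1, (hnext k k.2).2⟩⟩
    obtain ⟨⟨hp, hk⟩, he⟩ := hp.resolve_left htp.ne'
    exact ⟨_, hp, ⟨_, hk⟩, he⟩
  have hrep : ∀ t < n, ∃ g, R (E t) g := by
    intro t
    induction t using Nat.strong_induction_on with
    | _ t ih =>
      intro ht
      rcases Nat.eq_zero_or_pos t with rfl | htp
      · exact ⟨a, ha⟩
      · obtain ⟨p, hp, k, he⟩ := (hrow t ht).2.1 htp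
        obtain ⟨g, hgp⟩ := ih p hp (hp.trans ht)
        exact ⟨(gen k)⁻¹ * g * gen k, hR.conj hgp (hg k) (hrow t ht).1 he⟩
  have hrep' : ∀ t < n, R (E t) (el (E t)) := fun t ht =>
    hR.el_spec (hrep t ht).choose_spec
  refine ⟨hrep', fun g => ?_⟩
  rw [← hR.el_eq ha]
  refine isConj_iff_table (e := fun t => el (E t)) hn hgen (fun t ht htp => ?_)
    (fun t ht k => ?_) g
  · obtain ⟨p, hp, k, he⟩ := (hrow t ht).2.1 htp
    exact ⟨p, hp, k, hR.unique (hR.mul (hrep' p (hp.trans ht)) (hg k))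
      (he.symm ▸ hR.mul (hg k) (hrep' t ht))⟩
  · obtain ⟨u, hu, he⟩ := (hrow t ht).2.2 k
    exact ⟨u, hu, hR.unique (hR.mul (hrep' t ht) (hg k)) (he.symm ▸ hR.mul (hg k) (hrep' u hu))⟩


theorem Rep.conj {A K B : M7} {g k : Spor.J1} (ha : Rep A g) (hk : Rep K k) (hb : ok B = true)
    (he : J1.mul A K = J1.mul K B) : Rep B (k⁻¹ * g * k) := by
  refine ⟨hb, ?_⟩
  have e1 : toMat K * toMat B = toMat A * toMat K := by
    rw [← toMat_mul hk.spec_ok hb, ← he, toMat_mul ha.spec_ok hk.spec_ok]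
  rw [ha.spec_eq, hk.spec_eq] at e1
  simp only [Subgroup.coe_mul, InvMemClass.coe_inv, Units.val_mul]
  rw [mul_assoc, ← e1, ← mul_assoc, Units.inv_mul, one_mul]

/-- Coded matrices code the elements of J1. -/
theorem coding : Coding Spor.J1 Rep toJ :=
  ⟨Rep.one, Rep.mul, Rep.unique, Rep.toJ, Rep.conj⟩

end Cfsg.Agent.H10.J1
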