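import Cfsg.Agent.H10.J1.Invol

/-!
A Sylow 2-subgroup of J1 and the conjugacy of involutions.
-/

set_option autoImplicit false
set_option linter.style.haveILetI false

namespace Cfsg.Agent.H10.J1

open Cfsg

local notation "𝔞" => toJ mA

theorem rep_E1 : Rep mE1 (toJ mE1) := rep_word wE1 (by decide +kernel)

theorem rep_E2 : Rep mE2 (toJ mE2) := rep_word wE2 (by decide +kernel)

theorem rep_N : Rep mN (toJ mN) := rep_word wN (by decide +kernel)

/-- An elementary abelian subgroup of order 8. -/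
noncomputable def eight : Subgroup Spor.J1 :=
  Subgroup.closure (Set.range ![𝔞, toJ mE1, toJ mE2])

theorem eight_spec : (∀ t < 8, Rep (eE t) (toJ (eE t))) ∧
    ∀ g, g ∈ eight ↔ ∃ t < 8, toJ (eE t) = g :=
  tbl_spec coding (gs := [mA, mE1, mE2]) ![𝔞, toJ mE1, toJ mE2]
    (by intro k; fin_cases k; exacts [rep_A, rep_E1, rep_E2]) (by decide)
    fun t ht => by
      have h := chkE t ht
      simp only [rowE, Bool.and_eq_true] at h
      exact h.1.1

theorem eE_ok_distinct : (List.range 8).all (fun i => (List.range 8).all fun j =>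
    i == j || eE i != eE j) = true := by decide +kernel

theorem card_eight : Nat.card eight = 8 := by
  let f : Fin 8 → eight := fun t => ⟨toJ (eE t), (eight_spec.2 _).2 ⟨t, t.2, rfl⟩⟩
  have hb : Function.Bijective f := by
    refine ⟨fun t u h => ?_, fun g => ?_⟩
    · have he : toJ (eE t) = toJ (eE u) := congrArg Subtype.val h
      have hm : eE t = eE u := (eight_spec.1 t t.2).inj (he ▸ eight_spec.1 u u.2)
      have hd := eE_ok_distinct
      simp only [List.all_eq_true, List.mem_range, Bool.or_eq_true, beq_iff_eq, bne_iff_ne] at hd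
      exact Fin.ext ((hd _ t.2 _ u.2).resolve_right fun h' => h' hm)
    · obtain ⟨t, ht, he⟩ := (eight_spec.2 g).1 g.2
      exact ⟨⟨t, ht⟩, Subtype.ext he⟩
  rw [← Nat.card_eq_of_bijective f hb, Nat.card_fin]

theorem factorization_two : (Nat.card Spor.J1).factorization 2 = 3 := by
  rw [card_J1, show (175560 : ℕ) = 2 ^ 3 * 21945 by norm_num,
    Nat.factorization_mul (by norm_num) (by norm_num), Finsupp.add_apply,
    Nat.Prime.factorization_pow (by norm_num),
    Nat.factorization_eq_zero_of_not_dvd (by norm_num : ¬ 2 ∣ 21945)]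
  simp

/-- The Sylow 2-subgroup. -/
noncomputable def syl : Sylow 2 Spor.J1 :=
  haveI : Fact (Nat.Prime 2) := ⟨Nat.prime_two⟩
  Sylow.ofCard eight (by rw [card_eight, factorization_two]; norm_num)

theorem eE_zero : toJ (eE 0) = 1 :=
  toJ_eq (Rep.one.cast (show one = eE 0 by decide +kernel))

theorem fourPos_lt : ∀ t < 8, fourPos.getD t 0 < 1463 := by decide +kernel

/-- All involutions of J1 are conjugate. -/
theorem isConj_A_of_orderOf {g : Spor.J1} (hg : orderOf g = 2) : IsConj 𝔞 g := by
  haveI : Fact (Nat.Prime 2) := ⟨Nat.prime_two⟩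
  obtain ⟨Q, hQ⟩ := (IsPGroup.of_card (p := 2) (n := 1)
    (by rw [Nat.card_zpowers, hg, pow_one]) : IsPGroup 2 (Subgroup.zpowers g)).exists_le_sylow
  obtain ⟨c, hc⟩ := MulAction.exists_smul_eq Spor.J1 Q syl
  have hmem : c * g * c⁻¹ ∈ eight := by
    have : MulAut.conj c • g ∈ (c • Q : Sylow 2 Spor.J1) :=
      Subgroup.smul_mem_pointwise_smul _ (MulAut.conj c) _ (hQ (Subgroup.mem_zpowers g))
    rw [hc] at this
    exact this
  obtain ⟨t, ht, he⟩ := (eight_spec.2 _).1 hmem
  have ht0 : t ≠ 0 := by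
    rintro rfl
    rw [eE_zero] at he
    have h1 : g = 1 := conj_eq_one_iff.1 he.symm
    rw [h1, orderOf_one] at hg
    omega
  have h := chkE t ht
  simp only [rowE, Bool.and_eq_true, Bool.or_eq_true, beq_iff_eq] at h
  have heA : IsConj 𝔞 (c * g * c⁻¹) :=
    (invol_class.2 _).2 ⟨_, fourPos_lt t ht, by rw [← he, h.1.2.resolve_left ht0]⟩
  exact heA.trans (isConj_iff.2 ⟨c⁻¹, by group⟩)

end Cfsg.Agent.H10.J1
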