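import Cfsg.Agent.H10.J1.Simple
import Cfsg.Agent.H10.J1.ChecksA

/-!
The class of involutions of J1 and the centraliser of an involution.
-/

set_option autoImplicit false
set_option linter.style.haveILetI false

namespace Cfsg.Agent.H10.J1

open Cfsg

local notation "𝔞" => toJ mA

theorem rep_A : Rep mA 𝔞 := rep_word wA (by decide +kernel)

theorem orderOf_A : orderOf 𝔞 = 2 :=
  orderOf_of_powM rep_A (by decide +kernel) (by decide +kernel)

theorem rep_gens : ∀ k : Fin [mX, mY].length, Rep ([mX, mY].getD k one) (![gX, gY] k) := by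
  intro k
  fin_cases k
  exacts [rep_X, rep_Y]

theorem closure_gens : Subgroup.closure (Set.range ![gX, gY]) = ⊤ := by
  rw [Matrix.range_cons, Matrix.range_cons, Matrix.range_empty, Set.union_empty,
    Set.singleton_union, closure_XY]

theorem eA_zero : eA 0 = mA := by decide +kernel

theorem invol_class : (∀ t < 1463, Rep (eA t) (toJ (eA t))) ∧
    ∀ g, IsConj 𝔞 g ↔ ∃ t < 1463, toJ (eA t) = g :=
  cls_spec coding (gs := [mX, mY]) ![gX, gY] closure_gens rep_gens (rep_A.cast eA_zero.symm)
    (by decide) fun t ht => by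
      have h := chkA t ht
      simp only [rowA, Bool.and_eq_true] at h
      exact h.1.1.1.1

/-- A packed matrix with its fields. -/
def pack7 (A : M7) : ℕ :=
  A.r0 + 5192296858534827628530496329220096 * (A.r1 + 5192296858534827628530496329220096 *
    (A.r2 + 5192296858534827628530496329220096 * (A.r3 + 5192296858534827628530496329220096 *
      (A.r4 + 5192296858534827628530496329220096 * (A.r5 +
        5192296858534827628530496329220096 * A.r6)))))

theorem digits_seven (n B : ℕ) : n % B + B * (n / B % B + B * (n / B ^ 2 % B + B * (n / B ^ 3 % B +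
    B * (n / B ^ 4 % B + B * (n / B ^ 5 % B + B * (n / B ^ 6)))))) = n := by
  simp only [pow_succ, pow_zero, one_mul, ← Nat.div_div_eq_div_mul, Nat.mod_add_div]

theorem pack7_unpack (n : ℕ) : pack7 (unpack n) = n := by
  rw [unpack, pack7]
  exact digits_seven n 5192296858534827628530496329220096

theorem invol_inj {t u : ℕ} (ht : t < 1463) (hu : u < 1463)
    (h : toJ (eA t) = toJ (eA u)) : t = u := by
  have hm : eA t = eA u := (invol_class.1 t ht).inj (h ▸ invol_class.1 u hu)
  have hp : get2 involTab t = get2 involTab u := by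
    rw [← pack7_unpack (get2 involTab t), ← pack7_unpack (get2 involTab u)]
    exact congrArg pack7 hm
  refine key_injOn (key := get2 involTab) (S := get2 involSorted) (rank := get2 involRank)
    (inv := get2 involInv) (fun s hs => ?_) (fun s hs hs' => ?_) ht hu hp
  all_goals
    have h := chkA s hs
    simp only [rowA, Bool.and_eq_true, Bool.or_eq_true, beq_iff_eq, Nat.blt_eq] at h
  · exact ⟨h.1.1.1.2, h.1.1.2, h.1.2.symm⟩
  · exact h.2.resolve_left (by omega)

/-- The centraliser of the involution has order 120. -/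
theorem card_centralizer_A : Nat.card (Subgroup.centralizer ({𝔞} : Set Spor.J1)) = 120 := by
  have he : toJ (eA 0) = 𝔞 := by rw [eA_zero]
  have h := card_centralizer_mul (e := fun t => toJ (eA t)) (n := 1463)
    (fun g => by show IsConj (toJ (eA 0)) g ↔ _; rw [he]; exact invol_class.2 g)
    fun t ht u hu e => invol_inj ht hu e
  rw [he, card_J1, show (175560 : ℕ) = 120 * 1463 by norm_num] at h
  exact Nat.eq_of_mul_eq_mul_right (by norm_num) h

theorem rep_P : Rep mP (toJ mP) := rep_word wP (by decide +kernel)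

theorem rep_Q : Rep mQ (toJ mQ) := rep_word wQ (by decide +kernel)

theorem cent_spec : (∀ t < 120, Rep (eC t) (toJ (eC t))) ∧
    ∀ g, g ∈ Subgroup.closure (Set.range ![𝔞, toJ mP, toJ mQ]) ↔
      ∃ t < 120, toJ (eC t) = g :=
  tbl_spec coding (gs := [mA, mP, mQ]) ![𝔞, toJ mP, toJ mQ]
    (by intro k; fin_cases k; exacts [rep_A, rep_P, rep_Q]) (by decide)
    fun t ht => by
      have h := chkC t ht
      simp only [rowC, Bool.and_eq_true] at h
      exact h.1.1.1.1

theorem eC_ok_distinct : (List.range 120).all (fun i => (List.range 120).all fun j =>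
    i == j || eC i != eC j) = true := by decide +kernel

theorem eC_inj {t u : ℕ} (ht : t < 120) (hu : u < 120) (h : toJ (eC t) = toJ (eC u)) : t = u := by
  have hm : eC t = eC u := (cent_spec.1 t ht).inj (h ▸ cent_spec.1 u hu)
  have hd := eC_ok_distinct
  simp only [List.all_eq_true, List.mem_range, Bool.or_eq_true, beq_iff_eq, bne_iff_ne] at hd
  exact (hd _ ht _ hu).resolve_right fun h' => h' hm

theorem eC_comm {t : ℕ} (ht : t < 120) : toJ (eC t) * 𝔞 = 𝔞 * toJ (eC t) := by
  have h := chkC t ht
  simp only [rowC, Bool.and_eq_true, beq_iff_eq] at h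
  exact ((cent_spec.1 t ht).mul rep_A).unique ((rep_A.mul (cent_spec.1 t ht)).cast h.1.1.1.2.symm)

theorem cent_eq : Subgroup.closure (Set.range ![𝔞, toJ mP, toJ mQ]) =
    Subgroup.centralizer ({𝔞} : Set Spor.J1) := by
  refine Subgroup.eq_of_le_of_card_ge ?_ ?_
  · intro g hg
    obtain ⟨t, ht, rfl⟩ := (cent_spec.2 g).1 hg
    exact Subgroup.mem_centralizer_singleton_iff.2 (eC_comm ht)
  · rw [card_centralizer_A, ← Nat.card_fin 120]
    exact Nat.card_le_card_of_injective
      (fun t : Fin 120 => (⟨toJ (eC t), (cent_spec.2 _).2 ⟨t, t.2, rfl⟩⟩ :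
        Subgroup.closure (Set.range ![𝔞, toJ mP, toJ mQ])))
      fun t u h => Fin.ext (eC_inj t.2 u.2 (congrArg Subtype.val h))

theorem exists_index {g : Spor.J1} (hg : g ∈ Subgroup.centralizer ({𝔞} : Set Spor.J1)) :
    ∃ t < 120, toJ (eC t) = g := (cent_spec.2 g).1 (cent_eq.ge hg)

/-- The image of the element with a given index. -/
def img (t : ℕ) : Multiplicative (ZMod 2) × Equiv.Perm (Fin 5) := imgWord (centWord.getD t [])

theorem img_step {t k : ℕ} (ht : t < 120) (hk : k < 3) :
    img t * imgGen.getD k 1 = img (get2 centNext (3 * t + k)) := by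
  have h := chkC t ht
  simp only [rowC, Bool.and_eq_true, List.all_eq_true, List.mem_range, decide_eq_true_eq] at h
  exact h.2 k hk

theorem img_sign {t : ℕ} (ht : t < 120) : Equiv.Perm.sign (img t).2 = 1 := by
  have h := chkC t ht
  simp only [rowC, Bool.and_eq_true, decide_eq_true_eq] at h
  exact h.1.2

theorem img_ne_one {t : ℕ} (ht : t < 120) (h0 : 0 < t) : img t ≠ 1 := by
  have h := chkC t ht
  simp only [rowC, Bool.and_eq_true, Bool.or_eq_true, Bool.not_eq_true', beq_iff_eq,
    decide_eq_false_iff_not] at h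
  exact h.1.1.2.resolve_left h0.ne'

theorem eC_step {t : ℕ} (ht : t < 120) (k : Fin 3) :
    get2 centNext (3 * t + k) < 120 ∧
      toJ (eC t) * ![𝔞, toJ mP, toJ mQ] k = toJ (eC (get2 centNext (3 * t + k))) := by
  have h := chkC t ht
  simp only [rowC, tblRow, Bool.and_eq_true, List.all_eq_true, List.mem_range] at h
  have hk := h.1.1.1.1.2 k (by exact k.2)
  simp only [List.length_cons, List.length_nil, Bool.and_eq_true, Nat.blt_eq, beq_iff_eq] at hk
  refine ⟨hk.1, ((cent_spec.1 t ht).mul ?_).unique ((cent_spec.1 _ hk.1).cast hk.2.symm)⟩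
  fin_cases k
  exacts [rep_A, rep_P, rep_Q]

theorem eC_zero : toJ (eC 0) = 1 :=
  toJ_eq (Rep.one.cast (show one = eC 0 by decide +kernel))

theorem img_mul {g : Spor.J1} (hg : g ∈ Subgroup.closure (Set.range ![𝔞, toJ mP, toJ mQ])) :
    ∀ t < 120, ∀ u < 120, toJ (eC u) = g → ∀ w < 120, toJ (eC t) * g = toJ (eC w) →
      img w = img t * img u := by
  rw [← Subgroup.mem_toSubmonoid, Subgroup.closure_toSubmonoid_of_finite] at hg
  induction hg using Submonoid.closure_induction_right with
  | one =>
    intro t ht u hu he w hw h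
    rw [mul_one] at h
    rw [eC_inj hu (by decide) (he.trans eC_zero.symm), eC_inj hw ht h.symm,
      show img 0 = 1 by decide +kernel, mul_one]
  | mul_right x hx y hy ih =>
    obtain ⟨k, rfl⟩ := hy
    intro t ht u hu he w hw h
    have hx' : x ∈ Subgroup.closure (Set.range ![𝔞, toJ mP, toJ mQ]) := by
      rw [← Subgroup.mem_toSubmonoid, Subgroup.closure_toSubmonoid_of_finite]; exact hx
    obtain ⟨a, ha, rfl⟩ := (cent_spec.2 x).1 hx'
    obtain ⟨hb, hbe⟩ := eC_step ha k
    obtain ⟨v, hv, hve⟩ := (cent_spec.2 _).1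
      (mul_mem ((cent_spec.2 _).2 ⟨t, ht, rfl⟩) hx')
    obtain ⟨hc, hce⟩ := eC_step hv k
    rw [hbe] at he
    rw [← mul_assoc, ← hve, hce] at h
    rw [eC_inj hu hb he, eC_inj hw hc h.symm, ← img_step hv k.2, ← img_step ha k.2,
      ih t ht a ha rfl v hv hve.symm, mul_assoc]

/-- The centraliser of an involution of J1 is a group of order 2 times the alternating group of
degree 5. -/
theorem centralizer_iso : Nonempty (↥(Subgroup.centralizer ({𝔞} : Set Spor.J1)) ≃*
    Multiplicative (ZMod 2) × ↥(alternatingGroup (Fin 5))) := by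
  choose idx hidx hidxe using fun g : Subgroup.centralizer ({𝔞} : Set Spor.J1) => exists_index g.2
  let f : Subgroup.centralizer ({𝔞} : Set Spor.J1) →*
      Multiplicative (ZMod 2) × ↥(alternatingGroup (Fin 5)) :=
    MonoidHom.mk' (fun g => ((img (idx g)).1, ⟨(img (idx g)).2,
        Equiv.Perm.mem_alternatingGroup.2 (img_sign (hidx g))⟩)) fun g h => by
      have e := img_mul (cent_eq.ge h.2) (idx g) (hidx g) (idx h) (hidx h) (hidxe h) (idx (g * h))
        (hidx _) (by rw [hidxe, hidxe]; rfl)
      exact Prod.ext (congrArg Prod.fst e :) (Subtype.ext (congrArg Prod.snd e :))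
  have hinj : Function.Injective f := by
    rw [injective_iff_map_eq_one]
    intro g hg
    have h1 : img (idx g) = 1 := Prod.ext (congrArg Prod.fst hg :)
      (congrArg (fun x => (x.2 : Equiv.Perm (Fin 5))) hg :)
    have h0 : idx g = 0 := Nat.eq_zero_of_not_pos fun hpos => img_ne_one (hidx g) hpos h1
    exact Subtype.ext (by rw [← hidxe g, h0, eC_zero]; rfl)
  refine ⟨MulEquiv.ofBijective f ?_⟩
  rw [Nat.bijective_iff_injective_and_card, card_centralizer_A, Nat.card_prod]
  refine ⟨hinj, ?_⟩
  rw [nat_card_alternatingGroup, Nat.card_fin]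
  simp [Nat.factorial]

theorem exists_involution : ∃ t : ↥Spor.J1, orderOf t = 2 ∧
    Nonempty (↥(Subgroup.centralizer ({t} : Set ↥Spor.J1)) ≃*
      Multiplicative (ZMod 2) × ↥(alternatingGroup (Fin 5))) :=
  ⟨𝔞, orderOf_A, centralizer_iso⟩

end Cfsg.Agent.H10.J1
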