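import Mathlib.Data.ZMod.Basic
import Mathlib.Data.Matrix.Mul
import Mathlib.Algebra.BigOperators.Fin
import Mathlib.Tactic.FinCases
import Mathlib.Tactic.Ring

/-!
Seven by seven matrices over the integers modulo 11, one natural number for each row.
-/

set_option autoImplicit false

namespace Cfsg.Agent.H10.J1

/-- A matrix: row `i` carries its entries as the digits in base `65536`. -/
structure M7 where
  r0 : ℕ
  r1 : ℕ
  r2 : ℕ
  r3 : ℕ
  r4 : ℕ
  r5 : ℕ
  r6 : ℕ
deriving DecidableEq

/-- The seven digits of a row. -/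
def dig (r : ℕ) : Fin 7 → ℕ :=
  ![r % 65536, r / 65536 % 65536, r / 4294967296 % 65536, r / 281474976710656 % 65536,
    r / 18446744073709551616 % 65536, r / 1208925819614629174706176 % 65536,
    r / 79228162514264337593543950336 % 65536]

/-- The row with given digits. -/
def pk (f : Fin 7 → ℕ) : ℕ :=
  f 0 + 65536 * f 1 + 4294967296 * f 2 + 281474976710656 * f 3 + 18446744073709551616 * f 4
    + 1208925819614629174706176 * f 5 + 79228162514264337593543950336 * f 6

theorem dig_pk {f : Fin 7 → ℕ} (h : ∀ i, f i < 65536) : dig (pk f) = f := by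
  have h0 := h 0
  have h1 := h 1
  have h2 := h 2
  have h3 := h 3
  have h4 := h 4
  have h5 := h 5
  have h6 := h 6
  funext i
  fin_cases i <;> simp [dig, pk] <;> omega

/-- Reduce all digits modulo 11. -/
def red (n : ℕ) : ℕ :=
  n % 65536 % 11 + 65536 * (n / 65536 % 65536 % 11)
    + 4294967296 * (n / 4294967296 % 65536 % 11)
    + 281474976710656 * (n / 281474976710656 % 65536 % 11)
    + 18446744073709551616 * (n / 18446744073709551616 % 65536 % 11)
    + 1208925819614629174706176 * (n / 1208925819614629174706176 % 65536 % 11)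
    + 79228162514264337593543950336 * (n / 79228162514264337593543950336 % 65536 % 11)

theorem red_eq (n : ℕ) : red n = pk fun i => dig n i % 11 := by
  simp [red, pk, dig]

/-- A row times a matrix, before reduction. -/
def comb (r : ℕ) (B : M7) : ℕ :=
  r % 65536 * B.r0 + r / 65536 % 65536 * B.r1 + r / 4294967296 % 65536 * B.r2
    + r / 281474976710656 % 65536 * B.r3 + r / 18446744073709551616 % 65536 * B.r4
    + r / 1208925819614629174706176 % 65536 * B.r5
    + r / 79228162514264337593543950336 % 65536 * B.r6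

/-- The product of two matrices. -/
def mul (A B : M7) : M7 :=
  ⟨red (comb A.r0 B), red (comb A.r1 B), red (comb A.r2 B), red (comb A.r3 B),
    red (comb A.r4 B), red (comb A.r5 B), red (comb A.r6 B)⟩

/-- The identity matrix. -/
def one : M7 :=
  ⟨1, 65536, 4294967296, 281474976710656, 18446744073709551616, 1208925819614629174706176,
    79228162514264337593543950336⟩

/-- A row whose seven entries are below 11. -/
def rowOk (r : ℕ) : Bool :=
  Nat.blt (r % 65536) 11 && Nat.blt (r / 65536 % 65536) 11 && Nat.blt (r / 4294967296 % 65536) 11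
    && Nat.blt (r / 281474976710656 % 65536) 11
    && Nat.blt (r / 18446744073709551616 % 65536) 11
    && Nat.blt (r / 1208925819614629174706176 % 65536) 11
    && Nat.blt (r / 79228162514264337593543950336) 11

/-- A matrix whose rows are rows. -/
def ok (A : M7) : Bool :=
  rowOk A.r0 && rowOk A.r1 && rowOk A.r2 && rowOk A.r3 && rowOk A.r4 && rowOk A.r5 && rowOk A.r6

/-- Row `i`. -/
def row (A : M7) : Fin 7 → ℕ := ![A.r0, A.r1, A.r2, A.r3, A.r4, A.r5, A.r6]

theorem rowOk_iff {r : ℕ} : rowOk r = true ↔ (∀ i, dig r i < 11) ∧ pk (dig r) = r := by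
  simp only [rowOk, Bool.and_eq_true, Nat.blt_eq]
  constructor
  · rintro ⟨⟨⟨⟨⟨⟨h0, h1⟩, h2⟩, h3⟩, h4⟩, h5⟩, h6⟩
    refine ⟨fun i => ?_, ?_⟩
    · fin_cases i <;> simp [dig] <;> omega
    · simp [pk, dig]; omega
  · rintro ⟨h, hp⟩
    have h0 := h 0
    have h1 := h 1
    have h2 := h 2
    have h3 := h 3
    have h4 := h 4
    have h5 := h 5
    have h6 := h 6
    simp [dig, pk] at h0 h1 h2 h3 h4 h5 h6 hp
    omega

theorem ok_iff {A : M7} : ok A = true ↔ ∀ i, rowOk (row A i) = true := by
  simp [ok, row, Fin.forall_fin_succ, and_assoc]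

theorem ext_row {A B : M7} (h : ∀ i, row A i = row B i) : A = B := by
  obtain ⟨a0, a1, a2, a3, a4, a5, a6⟩ := A
  obtain ⟨b0, b1, b2, b3, b4, b5, b6⟩ := B
  simp [row, Fin.forall_fin_succ] at h
  simp [h]

theorem row_mul (A B : M7) (i : Fin 7) : row (mul A B) i = red (comb (row A i) B) := by
  fin_cases i <;> rfl

theorem comb_eq (r : ℕ) {B : M7} (hB : ok B = true) :
    comb r B = pk fun j => ∑ k, dig r k * dig (row B k) j := by
  have h := fun k => (rowOk_iff.1 (ok_iff.1 hB k)).2
  conv_lhs => rw [comb]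
  have e : comb r B = ∑ k, dig r k * row B k := by
    simp [comb, Fin.sum_univ_seven, row, dig]
  rw [← comb, e, show (∑ k, dig r k * row B k) = ∑ k, dig r k * pk (dig (row B k)) from
    Finset.sum_congr rfl fun k _ => by rw [h k]]
  simp only [pk, Fin.sum_univ_seven]
  ring

theorem dig_row_mul {A B : M7} (hA : ok A = true) (hB : ok B = true) (i j : Fin 7) :
    dig (row (mul A B) i) j = (∑ k, dig (row A i) k * dig (row B k) j) % 11 := by
  have ha := (rowOk_iff.1 (ok_iff.1 hA i)).1
  have hb := fun k => (rowOk_iff.1 (ok_iff.1 hB k)).1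
  have hlt : ∀ j, (∑ k, dig (row A i) k * dig (row B k) j) < 65536 := by
    intro j
    refine lt_of_le_of_lt (Finset.sum_le_card_nsmul Finset.univ _ 100 fun k _ => ?_) (by simp)
    calc dig (row A i) k * dig (row B k) j ≤ 10 * 10 :=
          Nat.mul_le_mul (Nat.le_of_lt_succ (ha k)) (Nat.le_of_lt_succ (hb k j))
      _ = 100 := rfl
  rw [row_mul, comb_eq _ hB, red_eq, dig_pk fun k => by omega, dig_pk hlt]

theorem ok_mul {A B : M7} (hA : ok A = true) (hB : ok B = true) : ok (mul A B) = true := by
  refine ok_iff.2 fun i => rowOk_iff.2 ⟨fun j => ?_, ?_⟩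
  · rw [dig_row_mul hA hB]; exact Nat.mod_lt _ (by decide)
  · rw [row_mul, red_eq, dig_pk fun k => by omega]

/-- The matrix over the integers modulo 11. -/
def toMat (A : M7) : Matrix (Fin 7) (Fin 7) (ZMod 11) := fun i j => (dig (row A i) j : ZMod 11)

theorem toMat_mul {A B : M7} (hA : ok A = true) (hB : ok B = true) :
    toMat (mul A B) = toMat A * toMat B := by
  ext i j
  simp only [toMat, Matrix.mul_apply, dig_row_mul hA hB, ZMod.natCast_mod, Nat.cast_sum,
    Nat.cast_mul]

theorem toMat_inj {A B : M7} (hA : ok A = true) (hB : ok B = true) (h : toMat A = toMat B) :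
    A = B := by
  refine ext_row fun i => ?_
  obtain ⟨ha, ea⟩ := rowOk_iff.1 (ok_iff.1 hA i)
  obtain ⟨hb, eb⟩ := rowOk_iff.1 (ok_iff.1 hB i)
  rw [← ea, ← eb]
  congr 1
  funext j
  have := congrArg ZMod.val (congrFun (congrFun h i) j)
  rwa [toMat, toMat, ZMod.val_natCast_of_lt (ha j), ZMod.val_natCast_of_lt (hb j)] at this

theorem ok_one : ok one = true := by decide

theorem toMat_one : toMat one = 1 := by
  ext i j
  fin_cases i <;> fin_cases j <;> rfl

end Cfsg.Agent.H10.J1
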