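import Mathlib
import Cfsg.Agent.H10.J1.ChecksR
import Cfsg.Agent.H10.J1.DataS

/-!
The order of J1.
-/

set_option autoImplicit false

namespace Cfsg.Agent.H10.J1

open Cfsg

local instance : Fact (Nat.Prime 11) := ⟨by norm_num⟩

/-- The first generator. -/
def gX : Spor.J1 := ⟨Spor.jankoX, Subgroup.subset_closure (by simp)⟩

/-- The second generator. -/
def gY : Spor.J1 := ⟨Spor.jankoY, Subgroup.subset_closure (by simp)⟩

theorem rep_X : Rep mX gX := by
  refine ⟨by decide +kernel, ?_⟩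
  ext i j
  fin_cases i <;> fin_cases j <;> decide +kernel

theorem rep_Y : Rep mY gY := by
  refine ⟨by decide +kernel, ?_⟩
  ext i j
  fin_cases i <;> fin_cases j <;> decide +kernel

theorem closure_XY : Subgroup.closure ({gX, gY} : Set Spor.J1) = ⊤ := by
  rw [eq_top_iff]
  intro g _
  have hle : Spor.J1 ≤ (Subgroup.closure ({gX, gY} : Set Spor.J1)).map Spor.J1.subtype := by
    show Subgroup.closure {Spor.jankoX, Spor.jankoY} ≤ _
    rw [Subgroup.closure_le]
    rintro _ (rfl | rfl)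
    · exact ⟨gX, Subgroup.subset_closure (by simp), rfl⟩
    · exact ⟨gY, Subgroup.subset_closure (by simp), rfl⟩
  obtain ⟨h, hh, he⟩ := hle g.2
  exact (Subtype.ext he : h = g) ▸ hh

theorem exists_rep_word (w : List Bool) : ∃ g : Spor.J1, Rep (evalW mX mY w) g := by
  obtain ⟨g, -, hg⟩ := Rep.evalW rep_X rep_Y w
  exact ⟨g, hg⟩

/-- The element of J1 with the matrix of a word. -/
theorem rep_word {A : M7} (w : List Bool) (h : evalW mX mY w = A) : Rep A (toJ A) := by
  obtain ⟨g, hg⟩ := exists_rep_word w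
  exact (h ▸ hg : Rep A g).toJ

theorem rep_Z : Rep mZ (toJ mZ) := rep_word wZ (by decide +kernel)

theorem rep_H : Rep mH (toJ mH) := rep_word wH (by decide +kernel)

/-- The stabiliser of the line. -/
noncomputable def stab : Subgroup Spor.J1 := Subgroup.closure (Set.range ![toJ mZ, toJ mH])

theorem stab_spec : (∀ i < 110, Rep (eH i) (toJ (eH i))) ∧
    ∀ g, g ∈ stab ↔ ∃ i < 110, toJ (eH i) = g :=
  tbl_spec coding (gs := [mZ, mH]) ![toJ mZ, toJ mH]
    (by intro k; fin_cases k; exacts [rep_Z, rep_H]) (by decide)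
    fun i hi => by
      have h := chkH i hi
      simp only [rowH, Bool.and_eq_true] at h
      exact h.1.1.1.1

theorem rep_eH {i : ℕ} (hi : i < 110) : Rep (eH i) (toJ (eH i)) := stab_spec.1 i hi

theorem rowOk_vRow : rowOk vRow = true := by decide

theorem toVec_vRow_ne : toVec vRow ≠ 0 := fun h => by
  have := congrFun h 0
  revert this
  decide +kernel

theorem eH_vec {i : ℕ} (hi : i < 110) : ∃ c : ZMod 11, c ≠ 0 ∧
    Matrix.vecMul (toVec vRow) (toMat (eH i)) = c • toVec vRow := by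
  have h := chkH i hi
  simp only [rowH, Bool.and_eq_true, beq_iff_eq, Nat.blt_eq] at h
  obtain ⟨⟨⟨⟨-, he⟩, hpos⟩, hlt⟩, -⟩ := h
  refine ⟨(get2 stabScal i : ZMod 11), fun h0 => ?_, ?_⟩
  · have := congrArg ZMod.val h0
    rw [ZMod.val_natCast_of_lt hlt, ZMod.val_zero] at this
    omega
  · rw [← toVec_vmul rowOk_vRow (rep_eH hi).spec_ok, he, toVec_smulR hlt rowOk_vRow]

theorem eH_exp {i : ℕ} (hi : i < 110) (hc : mul (eH i) mZ = mul mZ (eH i)) :
    eH i = powM mZ (zExp.getD i 0) := by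
  have h := chkH i hi
  simp only [rowH, Bool.and_eq_true, Bool.or_eq_true, beq_iff_eq, bne_iff_ne] at h
  exact h.2.resolve_left fun h' => h' hc

/-- What is checked for a representative. -/
theorem eR_data {t : ℕ} (ht : t < 1596) :
    (ok (eR t) = true ∧ rowOk (get2 lines t) = true) ∧
      (t = 0 → eR 0 = one) ∧
      (0 < t → ∃ p < t, ∃ k < 2, mul (eR p) ([mX, mY].getD k one) = eR t) ∧
      (∀ k < 2, ∃ i < 110, ∃ u < 1596,
        mul (eR t) ([mX, mY].getD k one) = mul (eH i) (eR u)) ∧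
      (∃ c < 11, 0 < c ∧ vmul vRow (eR t) = smulR c (get2 lines t)) ∧
      (∃ j : Fin 7, (∀ l : Fin 7, l < j → dig (get2 lines t) l = 0) ∧ dig (get2 lines t) j = 1) ∧
      (get2 lineRank t < 1596 ∧ get2 lineInv (get2 lineRank t) = t ∧
        get2 lines t = get2 lineSorted (get2 lineRank t)) ∧
      (t + 1 < 1596 → get2 lineSorted t < get2 lineSorted (t + 1)) ∧
      (0 < t → ∀ c < 11, smulR c (get2 lines t) ≠ vmul (get2 lines t) mZ) := by
  have h := chkR t ht
  simp only [rowR, Bool.and_eq_true, Bool.or_eq_true, beq_iff_eq, Nat.blt_eq, bne_iff_ne,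
    List.all_eq_true, List.mem_range, List.mem_finRange, forall_const] at h
  obtain ⟨⟨⟨⟨⟨⟨⟨⟨⟨⟨⟨⟨⟨hok, hp⟩, hnext⟩, hrow⟩, hv⟩, hc0⟩, hc1⟩, hl7⟩, hlead⟩, hr1⟩, hr2⟩, hr3⟩,
    hS⟩, hfix⟩ := h
  refine ⟨⟨hok, hrow⟩, fun e => ?_, fun htp => ?_, fun k hk => ?_, ⟨_, hc1, hc0, hv⟩,
    ⟨⟨_, hl7⟩, fun l hl => ?_, ?_⟩, ⟨hr1, hr2, hr3.symm⟩, fun h' => hS.resolve_left (by omega),
    fun htp => hfix.resolve_left (by omega)⟩
  · rw [if_pos e] at hp
    simpa using hp
  · rw [if_neg htp.ne'] at hp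
    simp only [Bool.and_eq_true, beq_iff_eq, Nat.blt_eq] at hp
    exact ⟨_, hp.1.1, _, hp.1.2, hp.2⟩
  · exact ⟨_, (hnext k hk).1.2, _, (hnext k hk).1.1, (hnext k hk).2⟩
  · have := hlead l
    rw [if_pos (by exact hl)] at this
    simpa using this
  · have := hlead ⟨_, hl7⟩
    rw [if_neg (lt_irrefl _), if_pos rfl] at this
    simpa using this

theorem rep_eR {t : ℕ} (ht : t < 1596) : Rep (eR t) (toJ (eR t)) := by
  suffices ∃ g, Rep (eR t) g from this.choose_spec.toJ
  induction t using Nat.strong_induction_on with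
  | _ t ih =>
    rcases Nat.eq_zero_or_pos t with rfl | htp
    · exact ⟨1, Rep.one.cast ((eR_data ht).2.1 rfl).symm⟩
    · obtain ⟨p, hp, k, hk, he⟩ := (eR_data ht).2.2.1 htp
      obtain ⟨g, hg⟩ := ih p hp (hp.trans ht)
      interval_cases k
      exacts [⟨_, (hg.mul rep_X).cast he⟩, ⟨_, (hg.mul rep_Y).cast he⟩]

theorem toJ_eR_zero : toJ (eR 0) = 1 :=
  toJ_eq (Rep.one.cast ((eR_data (by decide)).2.1 rfl).symm)

/-- The element with given stabiliser part and line. -/
noncomputable def el (p : Fin 110 × Fin 1596) : Spor.J1 := toJ (eH p.1) * toJ (eR p.2)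

theorem el_surjective : Function.Surjective el := by
  intro g
  have hg : g ∈ Submonoid.closure ({gX, gY} : Set Spor.J1) := by
    rw [← Subgroup.closure_toSubmonoid_of_finite, closure_XY]; trivial
  induction hg using Submonoid.closure_induction_right with
  | one =>
    obtain ⟨i, hi, he⟩ := (stab_spec.2 1).1 (one_mem _)
    exact ⟨(⟨i, hi⟩, ⟨0, by decide⟩), by rw [el, he, toJ_eR_zero, one_mul]⟩
  | mul_right x _ y hy ih =>
    obtain ⟨⟨i, t⟩, rfl⟩ := ih
    obtain ⟨k, hk, rep⟩ : ∃ k < 2, Rep ([mX, mY].getD k one) y := by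
      rcases hy with rfl | rfl
      exacts [⟨0, by decide, rep_X⟩, ⟨1, by decide, rep_Y⟩]
    obtain ⟨j, hj, u, hu, he⟩ := (eR_data t.2).2.2.2.1 k hk
    have e1 : toJ (eR t) * y = toJ (eH j) * toJ (eR u) :=
      ((rep_eR t.2).mul rep).unique (((rep_eH hj).mul (rep_eR hu)).cast he.symm)
    have hm : toJ (eH i) * toJ (eH j) ∈ stab :=
      mul_mem ((stab_spec.2 _).2 ⟨i, i.2, rfl⟩) ((stab_spec.2 _).2 ⟨j, hj, rfl⟩)
    obtain ⟨l, hl, hle⟩ := (stab_spec.2 _).1 hm
    refine ⟨(⟨l, hl⟩, ⟨u, hu⟩), ?_⟩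
    simp only [el]
    rw [hle, mul_assoc, ← e1, mul_assoc]

/-- The image of the chosen vector. -/
theorem el_vec (p : Fin 110 × Fin 1596) : ∃ c : ZMod 11, c ≠ 0 ∧
    Matrix.vecMul (toVec vRow) ((el p : GL (Fin 7) (ZMod 11)) : Matrix (Fin 7) (Fin 7) (ZMod 11))
      = c • toVec (get2 lines p.2) := by
  obtain ⟨a, ha, hea⟩ := eH_vec p.1.2
  obtain ⟨⟨hok, hrow⟩, -, -, -, ⟨c, hc, hc0, hv⟩, -⟩ := eR_data p.2.2
  refine ⟨a * c, mul_ne_zero ha fun h0 => ?_, ?_⟩
  · have := congrArg ZMod.val h0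
    rw [ZMod.val_natCast_of_lt hc, ZMod.val_zero] at this
    omega
  · rw [el, Subgroup.coe_mul, Units.val_mul, ← (rep_eH p.1.2).spec_eq,
      ← (rep_eR p.2.2).spec_eq, ← Matrix.vecMul_vecMul, hea, Matrix.smul_vecMul,
      ← toVec_vmul rowOk_vRow hok, hv, toVec_smulR hc hrow, smul_smul]

theorem lines_inj {t u : ℕ} (ht : t < 1596) (hu : u < 1596) {c : ZMod 11}
    (h : toVec (get2 lines t) = c • toVec (get2 lines u)) : t = u := by
  obtain ⟨⟨-, rt⟩, -, -, -, -, ⟨i, hi0, hi1⟩, -⟩ := eR_data ht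
  obtain ⟨⟨-, ru⟩, -, -, -, -, ⟨j, hj0, hj1⟩, -⟩ := eR_data hu
  have ei : (1 : ZMod 11) = c * toVec (get2 lines u) i := by
    have := congrFun h i
    simpa [toVec, hi1] using this
  have ej : toVec (get2 lines t) j = c := by
    have := congrFun h j
    simpa [toVec, hj1] using this
  have hji : j ≤ i := not_lt.1 fun hlt => by
    rw [toVec, hj0 i hlt, Nat.cast_zero, mul_zero] at ei
    exact one_ne_zero ei
  have hij : i ≤ j := not_lt.1 fun hlt => by
    rw [toVec, hi0 j hlt, Nat.cast_zero] at ej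
    rw [← ej, zero_mul] at ei
    exact one_ne_zero ei
  obtain rfl : i = j := le_antisymm hij hji
  have hc : c = 1 := by rw [← ej, toVec, hi1, Nat.cast_one]
  rw [hc, one_smul] at h
  refine key_injOn (key := get2 lines) (S := get2 lineSorted) (rank := get2 lineRank)
    (inv := get2 lineInv) (fun s hs => ?_) (fun s hs hs' => ?_) ht hu
    (toVec_inj rt ru h)
  · exact (eR_data hs).2.2.2.2.2.2.1
  · exact (eR_data hs).2.2.2.2.2.2.2.1 hs'

/-- The stabiliser table has no repetitions. -/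
theorem eH_ok_distinct : (List.range 110).all (fun i => (List.range 110).all fun j =>
    i == j || eH i != eH j) = true := by decide +kernel

theorem el_injective : Function.Injective el := by
  intro p q h
  obtain ⟨a, ha, hpa⟩ := el_vec p
  obtain ⟨b, hb, hqb⟩ := el_vec q
  rw [h, hqb] at hpa
  have e2 : p.2 = q.2 := Fin.ext (lines_inj (c := a⁻¹ * b) p.2.2 q.2.2 (by
    rw [mul_smul, hpa, smul_smul, inv_mul_cancel₀ ha, one_smul]))
  have e1 : toJ (eH p.1) = toJ (eH q.1) := by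
    have := h
    rw [el, el, e2] at this
    exact mul_right_cancel this
  refine Prod.ext (Fin.ext ?_) e2
  have hm := (rep_eH p.1.2).inj (e1 ▸ rep_eH q.1.2)
  have hd := eH_ok_distinct
  simp only [List.all_eq_true, List.mem_range, Bool.or_eq_true, beq_iff_eq, bne_iff_ne] at hd
  exact (hd _ p.1.2 _ q.1.2).resolve_right fun h' => h' hm

/-- The order of J1. -/
theorem card_J1 : Nat.card Spor.J1 = 175560 := by
  rw [← Nat.card_eq_of_bijective el ⟨el_injective, el_surjective⟩, Nat.card_prod, Nat.card_fin,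
    Nat.card_fin]

end Cfsg.Agent.H10.J1
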