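import Cfsg.Agent.H10.J1.Eight
import Cfsg.Agent.H10.J1.ChecksB
import Cfsg.Agent.H10.J1.ChecksOut
import Cfsg.Agent.H10.PointStabAut

/-!
Every automorphism of J1 is inner.
-/

set_option autoImplicit false
set_option linter.style.haveILetI false

namespace Cfsg.Agent.H10.J1

open Cfsg

local notation "𝔞" => toJ mA
local notation "𝔟" => toJ mB

theorem rep_B : Rep mB 𝔟 := rep_word wB (by decide +kernel)

theorem orderOf_B : orderOf 𝔟 = 3 := by
  haveI : Fact (Nat.Prime 3) := ⟨by norm_num⟩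
  exact orderOf_of_powM rep_B (by decide +kernel) (by decide +kernel)

theorem eB_zero : eB 0 = mB := by decide +kernel

theorem three_class : (∀ t < 5852, Rep (eB t) (toJ (eB t))) ∧
    ∀ g, IsConj 𝔟 g ↔ ∃ t < 5852, toJ (eB t) = g :=
  cls_spec coding (gs := [mX, mY]) ![gX, gY] closure_gens rep_gens (rep_B.cast eB_zero.symm)
    (by decide) fun t ht => by
      have h := chkB t ht
      rw [rowB] at h
      exact h

theorem sqPos_lt : sqPos < 5852 := by decide +kernel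

theorem isConj_B_of_orderOf {g : Spor.J1} (hg : orderOf g = 3) : IsConj 𝔟 g := by
  haveI : Fact (Nat.Prime 3) := ⟨by norm_num⟩
  have hfac : (Nat.card Spor.J1).factorization 3 = 1 := by
    rw [card_J1, show (175560 : ℕ) = 3 ^ 1 * 58520 by norm_num,
      Nat.factorization_mul (by norm_num) (by norm_num), Finsupp.add_apply,
      Nat.Prime.factorization_pow (by norm_num),
      Nat.factorization_eq_zero_of_not_dvd (by norm_num : ¬ 3 ∣ 58520)]
    simp
  let P : Sylow 3 Spor.J1 := Sylow.ofCard (Subgroup.zpowers g)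
    (by rw [Nat.card_zpowers, hg, hfac, pow_one])
  let Q : Sylow 3 Spor.J1 := Sylow.ofCard (Subgroup.zpowers 𝔟)
    (by rw [Nat.card_zpowers, orderOf_B, hfac, pow_one])
  obtain ⟨c, hc⟩ := MulAction.exists_smul_eq Spor.J1 P Q
  have hmem : c * g * c⁻¹ ∈ Subgroup.zpowers 𝔟 := by
    have : MulAut.conj c • g ∈ (c • P : Sylow 3 Spor.J1) :=
      Subgroup.smul_mem_pointwise_smul _ (MulAut.conj c) _ (Subgroup.mem_zpowers g)
    rw [hc] at this
    exact this
  obtain ⟨k, hk⟩ := Subgroup.mem_zpowers_iff.1 hmem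
  rw [← zpow_mod_orderOf, orderOf_B] at hk
  refine IsConj.trans ?_ (isConj_iff.2 ⟨c⁻¹, by group⟩ : IsConj (c * g * c⁻¹) g)
  rcases (show k % (3 : ℕ) = 0 ∨ k % (3 : ℕ) = 1 ∨ k % (3 : ℕ) = 2 by omega) with h | h | h
  all_goals rw [h] at hk
  · rw [zpow_zero] at hk
    have h1 : g = 1 := conj_eq_one_iff.1 hk.symm
    rw [h1, orderOf_one] at hg
    omega
  · rw [zpow_one] at hk
    rw [← hk]
  · rw [← hk]
    refine (three_class.2 _).2 ⟨sqPos, sqPos_lt, ?_⟩
    rw [show (2 : ℤ) = ((2 : ℕ) : ℤ) from rfl, zpow_natCast, pow_two]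
    exact toJ_eq ((rep_B.mul rep_B).cast (show mul mB mB = eB sqPos by decide +kernel))

theorem closure_AB : Subgroup.closure ({𝔞, 𝔟} : Set Spor.J1) = ⊤ := by
  obtain ⟨x, hx, rx⟩ := Rep.evalW rep_A rep_B wXab
  obtain ⟨y, hy, ry⟩ := Rep.evalW rep_A rep_B wYab
  rw [(rx.cast (show evalW mA mB wXab = mX by decide +kernel)).unique rep_X] at hx
  rw [(ry.cast (show evalW mA mB wYab = mY by decide +kernel)).unique rep_Y] at hy
  rw [eq_top_iff, ← closure_XY, Subgroup.closure_le]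
  rintro _ (rfl | rfl)
  exacts [hx, hy]

theorem pow_seven {G : Type*} [Monoid G] (p : G) : (p * p * (p * p)) * (p * p * p) = p ^ 7 := by
  simp [pow_succ, mul_assoc]

theorem pow_nineteen {G : Type*} [Monoid G] (q : G) :
    (((q * q * (q * q)) * (q * q * (q * q))) * ((q * q * (q * q)) * (q * q * (q * q)))) *
      (q * q) * q = q ^ 19 := by
  simp [pow_succ, mul_assoc]

/-- The chosen pair satisfies the two relations. -/
theorem rel_AB : (𝔞 * 𝔟) ^ 7 = 1 ∧ (𝔞 * (𝔟 * 𝔟 * (𝔞 * 𝔟))) ^ 19 = 1 := by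
  refine ⟨((rep_A.mul rep_B).pow 7).unique (Rep.one.cast ?_),
    ((rep_A.mul ((rep_B.mul rep_B).mul (rep_A.mul rep_B))).pow 19).unique (Rep.one.cast ?_)⟩
  · decide +kernel
  · decide +kernel

/-- An element of order 3 in the same relation to the involution is conjugate to the chosen one
under the centraliser of the involution. -/
theorem pair_unique {g : Spor.J1} (hg : orderOf g = 3) (h7 : (𝔞 * g) ^ 7 = 1)
    (h19 : (𝔞 * (g * g * (𝔞 * g))) ^ 19 = 1) :
    ∃ c ∈ Subgroup.centralizer ({𝔞} : Set Spor.J1), g * c = c * 𝔟 := by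
  obtain ⟨t, ht, rfl⟩ := (three_class.2 g).1 (isConj_B_of_orderOf hg)
  have rt := three_class.1 t ht
  have h := chkOut t ht
  have rp := rep_A.mul rt
  have rq := rep_A.mul ((rt.mul rt).mul rp)
  have rq2 := rq.mul rq
  have rq8 := (rq2.mul rq2).mul (rq2.mul rq2)
  have e7 := (((rp.mul rp).mul (rp.mul rp)).mul ((rp.mul rp).mul rp)).inj
    (by rw [pow_seven, h7]; exact Rep.one)
  have e19 := (((rq8.mul rq8).mul rq2).mul rq).inj (by rw [pow_nineteen, h19]; exact Rep.one)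
  simp only [rowOut, e7, e19, beq_self_eq_true, if_true, Bool.and_eq_true, Nat.blt_eq,
    beq_iff_eq] at h
  refine ⟨toJ (eC (get2 threeCent t)), cent_eq.le ((cent_spec.2 _).2 ⟨_, h.1, rfl⟩), ?_⟩
  exact (rt.mul (cent_spec.1 _ h.1)).unique (((cent_spec.1 _ h.1).mul rep_B).cast h.2.symm)

/-- The outer automorphism group of J1 is trivial. -/
theorem out_J1 : Nat.card (Cfsg.Out ↥Spor.J1) = 1 := by
  refine card_out_eq_one fun φ => ?_
  obtain ⟨u, hu⟩ := isConj_iff.1 (isConj_A_of_orderOf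
    (show orderOf ((φ : MulAut Spor.J1) 𝔞) = 2 by rw [MulEquiv.orderOf_eq, orderOf_A]))
  set ψ : MulAut Spor.J1 := MulAut.conj u⁻¹ * φ with hψ
  have hψa : ψ 𝔞 = 𝔞 := by
    rw [hψ, MulAut.mul_apply, ← hu, MulAut.conj_apply]; group
  obtain ⟨c, hc, hgc⟩ := pair_unique (g := ψ 𝔟) (by rw [MulEquiv.orderOf_eq, orderOf_B])
    (by rw [← hψa, ← map_mul, ← map_pow, rel_AB.1, map_one])
    (by rw [← hψa, ← map_mul, ← map_mul, ← map_mul, ← map_mul, ← map_pow, rel_AB.2, map_one])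
  have hca : c * 𝔞 = 𝔞 * c := Subgroup.mem_centralizer_singleton_iff.1 hc
  have hcψ : ∀ g : Spor.J1, MulAut.conj c g = ψ g := by
    intro g
    have hg : g ∈ Subgroup.closure ({𝔞, 𝔟} : Set Spor.J1) := by rw [closure_AB]; trivial
    refine MonoidHom.eqOn_closure (f := (MulAut.conj c : Spor.J1 →* Spor.J1))
      (g := (ψ : Spor.J1 →* Spor.J1)) ?_ hg
    rintro _ (rfl | rfl)
    · show c * 𝔞 * c⁻¹ = ψ 𝔞
      rw [hψa, hca, mul_inv_cancel_right]
    · show c * 𝔟 * c⁻¹ = ψ 𝔟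
      rw [← hgc, mul_inv_cancel_right]
  refine ⟨u * c, MulEquiv.ext fun g => ?_⟩
  rw [map_mul, MulAut.mul_apply, hcψ, hψ, MulAut.mul_apply, ← MulAut.mul_apply, ← map_mul,
    mul_inv_cancel, map_one, MulAut.one_apply]

end Cfsg.Agent.H10.J1
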