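import Cfsg.Agent.H10.J1.Core
import Cfsg.Agent.H10.J1.DataH
import Cfsg.Agent.H10.J1.DataR
import Cfsg.Agent.H10.J1.DataA
import Cfsg.Agent.H10.J1.DataB
import Cfsg.Agent.H10.J1.DataC
import Cfsg.Agent.H10.J1.DataS
import Mathlib.GroupTheory.Perm.Sign
import Mathlib.Data.Fintype.Perm
import Mathlib.Algebra.Group.Prod

/-!
The checks made row by row.
-/

set_option autoImplicit false

namespace Cfsg.Agent.H10.J1

/-- A matrix of the stabiliser. -/
def eH (i : ℕ) : M7 := unpack (get2 stabTab i)

/-- A representative. -/
def eR (t : ℕ) : M7 := unpack (get2 cosTab t)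

/-- An involution. -/
def eA (t : ℕ) : M7 := unpack (get2 involTab t)

/-- An element of order 3. -/
def eB (t : ℕ) : M7 := unpack (get2 threeTab t)

/-- A matrix of the centraliser. -/
def eC (t : ℕ) : M7 := unpack (get2 centTab t)

/-- A matrix of the group of order 8. -/
def eE (t : ℕ) : M7 := unpack (eightTab.getD t 0)

/-- The stabiliser: table, scalar on the line and centraliser of the element of order 11. -/
def rowH (i : ℕ) : Bool :=
  tblRow 110 eH [mZ, mH] (get2 stabPar) (get2 stabGen) (get2 stabNext) i &&
  vmul vRow (eH i) == smulR (get2 stabScal i) vRow &&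
  Nat.blt 0 (get2 stabScal i) && Nat.blt (get2 stabScal i) 11 &&
  (mul (eH i) mZ != mul mZ (eH i) || eH i == powM mZ (zExp.getD i 0))

/-- A representative: its parent, its transitions and its line. -/
def rowR (t : ℕ) : Bool :=
  ok (eR t) &&
  (if t = 0 then eR 0 == one else
    Nat.blt (get2 cosPar t) t && Nat.blt (get2 cosGen t) 2 &&
      mul (eR (get2 cosPar t)) ([mX, mY].getD (get2 cosGen t) one) == eR t) &&
  ((List.range 2).all fun k => Nat.blt (get2 cosNext (2 * t + k)) 1596 &&
    Nat.blt (get2 cosStab (2 * t + k)) 110 &&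
    mul (eR t) ([mX, mY].getD k one) ==
      mul (eH (get2 cosStab (2 * t + k))) (eR (get2 cosNext (2 * t + k)))) &&
  rowOk (get2 lines t) && vmul vRow (eR t) == smulR (get2 lineScal t) (get2 lines t) &&
  Nat.blt 0 (get2 lineScal t) && Nat.blt (get2 lineScal t) 11 &&
  Nat.blt (get2 lineLead t) 7 &&
  ((List.finRange 7).all fun j => if (j : ℕ) < get2 lineLead t then dig (get2 lines t) j == 0
    else if (j : ℕ) = get2 lineLead t then dig (get2 lines t) j == 1 else true) &&
  Nat.blt (get2 lineRank t) 1596 && get2 lineInv (get2 lineRank t) == t &&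
  get2 lineSorted (get2 lineRank t) == get2 lines t &&
  (t + 1 == 1596 || Nat.blt (get2 lineSorted t) (get2 lineSorted (t + 1))) &&
  (t == 0 || (List.range 11).all fun c =>
    smulR c (get2 lines t) != vmul (get2 lines t) mZ)

/-- An involution: conjugation transitions and its place in the order. -/
def rowA (t : ℕ) : Bool :=
  clsRow 1463 eA [mX, mY] (get2 involPar) (get2 involGen) (get2 involNext) t &&
  Nat.blt (get2 involRank t) 1463 && get2 involInv (get2 involRank t) == t &&
  get2 involSorted (get2 involRank t) == get2 involTab t &&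
  (t + 1 == 1463 || Nat.blt (get2 involSorted t) (get2 involSorted (t + 1)))

/-- An element of order 3: conjugation transitions. -/
def rowB (t : ℕ) : Bool :=
  clsRow 5852 eB [mX, mY] (get2 threePar) (get2 threeGen) (get2 threeNext) t

/-- The seventh power of a product is one and a commutator has order dividing 19: then the element
is conjugate to the chosen one under the centraliser. -/
def rowOut (t : ℕ) : Bool :=
  let p := mul mA (eB t)
  let p2 := mul p p
  if mul (mul p2 p2) (mul p2 p) == one then
    let q := mul mA (mul (mul (eB t) (eB t)) p)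
    let q2 := mul q q
    let q16 := mul (mul q2 q2) (mul q2 q2)
    let q16' := mul q16 q16
    if mul (mul q16' q2) q == one then
      Nat.blt (get2 threeCent t) 120 &&
        mul (eB t) (eC (get2 threeCent t)) == mul (eC (get2 threeCent t)) mB
    else true
  else true

/-- The images of the three generators of the centraliser. -/
def imgGen : List (Multiplicative (ZMod 2) × Equiv.Perm (Fin 5)) :=
  [(Multiplicative.ofAdd 1, 1),
    (1, ⟨![0, 2, 1, 4, 3], ![0, 2, 1, 4, 3], by decide, by decide⟩),
    (1, ⟨![1, 3, 2, 0, 4], ![3, 0, 2, 1, 4], by decide, by decide⟩)]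

/-- The image of a word. -/
def imgWord (w : List ℕ) : Multiplicative (ZMod 2) × Equiv.Perm (Fin 5) :=
  (w.map fun k => imgGen.getD k 1).prod

/-- An element of the centraliser: table, commutation with the involution and image. -/
def rowC (t : ℕ) : Bool :=
  tblRow 120 eC [mA, mP, mQ] (get2 centPar) (get2 centGen) (get2 centNext) t &&
  mul (eC t) mA == mul mA (eC t) &&
  (t == 0 || !decide (imgWord (centWord.getD t []) = 1)) &&
  decide (Equiv.Perm.sign (imgWord (centWord.getD t [])).2 = 1) &&
  (List.range 3).all fun k => decide (imgWord (centWord.getD t []) * imgGen.getD k 1 =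
      imgWord (centWord.getD (get2 centNext (3 * t + k)) []))

/-- An element of the group of order 8. -/
def rowE (t : ℕ) : Bool :=
  tblRow 8 eE [mA, mE1, mE2] (fun i => eightPar.getD i 0) (fun i => eightGen.getD i 0)
    (fun i => eightNext.getD i 0) t &&
  (t == 0 || eE t == eA (fourPos.getD t 0)) &&
  mul (eE t) mN == mul mN (eE (eightConj.getD t 0))

/-- A check on a stretch of rows. -/
def stretch (f : ℕ → Bool) (a n : ℕ) : Bool := (List.range' a n).all f

theorem of_stretch {f : ℕ → Bool} {a n t : ℕ} (h : stretch f a n = true) (h1 : a ≤ t)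
    (h2 : t < a + n) : f t = true :=
  List.all_eq_true.1 h t (List.mem_range'_1.2 ⟨h1, h2⟩)

end Cfsg.Agent.H10.J1
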