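import Cfsg.Agent.H10.J1.Order
import Mathlib.GroupTheory.Sylow
import Mathlib.GroupTheory.GroupAction.ConjAct

/-!
J1 is simple.
-/

set_option autoImplicit false
set_option linter.style.haveILetI false

namespace Cfsg.Agent.H10.J1

open Cfsg

local instance : Fact (Nat.Prime 11) := ⟨by norm_num⟩

local notation "𝔷" => toJ mZ

theorem rowOk_smulR (c r : ℕ) : rowOk (smulR c r) = true :=
  rowOk_iff.2 ⟨fun j => by
      rw [smulR, red_eq, dig_pk fun k => by omega]; exact Nat.mod_lt _ (by decide),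
    by rw [smulR, red_eq, dig_pk fun k => by omega]⟩

theorem orderOf_of_powM {A : M7} {g : Spor.J1} {p : ℕ} [Fact p.Prime] (h : Rep A g)
    (hp : powM A p = one) (hne : A ≠ one) : orderOf g = p :=
  orderOf_eq_prime (((h.pow p).cast hp).unique Rep.one) fun e =>
    hne (h.inj (e ▸ Rep.one))

theorem orderOf_Z : orderOf 𝔷 = 11 := by
  haveI : Fact (Nat.Prime 11) := ⟨by norm_num⟩
  exact orderOf_of_powM rep_Z (by decide +kernel) (by decide +kernel)

theorem Z_mem_stab : 𝔷 ∈ stab := Subgroup.subset_closure ⟨0, rfl⟩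

/-- The element of order 11 is centralised only by its powers. -/
theorem centralizer_Z {g : Spor.J1} (hg : g * 𝔷 = 𝔷 * g) : g ∈ Subgroup.zpowers 𝔷 := by
  obtain ⟨⟨i, t⟩, rfl⟩ := el_surjective g
  obtain ⟨iz, hiz, hz⟩ := (stab_spec.2 _).1 Z_mem_stab
  obtain ⟨cz, -, hzv⟩ := eH_vec hiz
  have eZ : eH iz = mZ := (rep_eH hiz).inj (hz.symm ▸ rep_Z)
  rw [eZ] at hzv
  obtain ⟨c, hc, hgv⟩ := el_vec (i, t)
  have hfix : Matrix.vecMul (toVec (get2 lines t)) (toMat mZ) = cz • toVec (get2 lines t) := by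
    have h := congrArg (fun k : Spor.J1 => Matrix.vecMul (toVec vRow)
      ((k : GL (Fin 7) (ZMod 11)) : Matrix (Fin 7) (Fin 7) (ZMod 11))) hg
    simp only [Subgroup.coe_mul, Units.val_mul, ← Matrix.vecMul_vecMul, hgv] at h
    rw [← rep_Z.spec_eq, hzv, Matrix.smul_vecMul, Matrix.smul_vecMul, hgv, smul_smul,
      mul_comm cz c, ← smul_smul] at h
    have h' := congrArg (fun x => c⁻¹ • x) h
    simpa only [inv_smul_smul₀ hc] using h'
  obtain ⟨⟨-, hrow⟩, -, -, -, -, -, -, -, hne⟩ := eR_data t.2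
  rcases Nat.eq_zero_or_pos (t : ℕ) with h0 | h0
  · have hel : el (i, t) = toJ (eH i) := by rw [el, h0, toJ_eR_zero, mul_one]
    rw [hel] at hg ⊢
    have hm : mul (eH i) mZ = mul mZ (eH i) :=
      ((rep_eH i.2).mul rep_Z).inj (hg ▸ rep_Z.mul (rep_eH i.2))
    rw [toJ_eq ((rep_Z.pow _).cast (eH_exp i.2 hm).symm)]
    exact ⟨_, zpow_natCast _ _⟩
  · refine absurd (toVec_inj (rowOk_smulR _ _) rowOk_vmul ?_) (hne h0 cz.val (ZMod.val_lt cz))
    rw [toVec_smulR (ZMod.val_lt cz) hrow, toVec_vmul hrow rep_Z.spec_ok, hfix,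
      ZMod.natCast_zmod_val]

theorem not_one_mod {m : ℕ} (hm : m ∣ 175560) {q k : ℕ} (hq : q.Prime) (hk : 0 < k)
    (he : m = q ^ k) (h11 : q ≠ 11) : m % 11 ≠ 1 := by
  subst he
  have hq' : q ∣ 2 * (2 * (2 * (3 * (5 * (7 * (11 * 19)))))) :=
    (dvd_pow_self q hk.ne').trans (by simpa using hm)
  simp only [hq.dvd_mul, Nat.prime_dvd_prime_iff_eq hq Nat.prime_two,
    Nat.prime_dvd_prime_iff_eq hq Nat.prime_three,
    Nat.prime_dvd_prime_iff_eq hq (show (5).Prime by norm_num),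
    Nat.prime_dvd_prime_iff_eq hq (show (7).Prime by norm_num),
    Nat.prime_dvd_prime_iff_eq hq (show (11).Prime by norm_num),
    Nat.prime_dvd_prime_iff_eq hq (show (19).Prime by norm_num)] at hq'
  have key : ∀ d, (¬ q ^ (d + 1) ∣ 175560) → k ≤ d := fun d hd => by
    by_contra h
    exact hd ((pow_dvd_pow q (show d + 1 ≤ k by omega)).trans hm)
  rcases hq' with rfl | rfl | rfl | rfl | rfl | rfl | rfl | rfl
  iterate 3
    have := key 3 (by norm_num)
    interval_cases k <;> norm_num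
  all_goals
    first
      | exact absurd rfl h11
      | (have := key 1 (by norm_num); interval_cases k; norm_num)

/-- A word in the generators lies in the conjugates of a normal subgroup. -/
theorem mem_of_conj {N : Subgroup Spor.J1} [N.Normal] (hz : 𝔷 ∈ N) (w : List Bool) (C : M7)
    (hok : ok C = true) (he : mul mZ (evalW mX mY w) = mul (evalW mX mY w) C) :
    ∃ c ∈ N, Rep C c := by
  obtain ⟨g, hg⟩ := exists_rep_word w
  exact ⟨g⁻¹ * 𝔷 * g, by simpa using Subgroup.Normal.conj_mem ‹_› _ hz g⁻¹,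
    Rep.conj rep_Z hg hok he⟩

/-- An element of prime order normalising a subgroup whose order is not one modulo that prime
commutes with a nontrivial element of it. -/
theorem exists_commute_of_normalizes {G : Type*} [Group G] [Finite G] {p : ℕ} [Fact p.Prime]
    {w : G} (hw : orderOf w = p) {Q : Subgroup G} (hwQ : w ∈ Subgroup.normalizer (Q : Set G))
    (hmod : Nat.card Q % p ≠ 1) : ∃ x ∈ Q, x ≠ 1 ∧ x * w = w * x := by
  letI act : MulAction (Subgroup.zpowers w) Q :=
    { smul := fun k x => ⟨(k : G) * x * (k : G)⁻¹,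
        ((Subgroup.mem_normalizer_iff.1 (Subgroup.zpowers_le.2 hwQ k.2)) x).1 x.2⟩
      one_smul := fun x => Subtype.ext (by
        show ((1 : Subgroup.zpowers w) : G) * x * ((1 : Subgroup.zpowers w) : G)⁻¹ = x
        simp)
      mul_smul := fun k l x => Subtype.ext (by
        show ((k * l : Subgroup.zpowers w) : G) * x * ((k * l : Subgroup.zpowers w) : G)⁻¹ =
          (k : G) * ((l : G) * x * (l : G)⁻¹) * (k : G)⁻¹
        simp [mul_assoc]) }
  have hwc : Nat.card (Subgroup.zpowers w) = p ^ 1 := by rw [Nat.card_zpowers, hw, pow_one]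
  have h := (IsPGroup.of_card hwc).card_modEq_card_fixedPoints Q
  by_contra hno
  push Not at hno
  have hcard : Nat.card (MulAction.fixedPoints (Subgroup.zpowers w) Q) = 1 := by
    rw [Nat.card_eq_one_iff_unique]
    have hone : ∀ x ∈ MulAction.fixedPoints (Subgroup.zpowers w) Q, x = (1 : Q) := by
      intro x hx
      by_contra hne
      have h1 : w * (x : G) * w⁻¹ = x :=
        congrArg Subtype.val (hx ⟨w, Subgroup.mem_zpowers w⟩)
      exact hno x x.2 (fun e => hne (Subtype.ext e)) (mul_inv_eq_iff_eq_mul.1 h1).symm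
    exact ⟨⟨fun a b => Subtype.ext ((hone a a.2).trans (hone b b.2).symm)⟩,
      ⟨⟨1, fun k => Subtype.ext (by
        show (k : G) * 1 * (k : G)⁻¹ = 1
        simp)⟩⟩⟩
  rw [hcard, Nat.ModEq, Nat.one_mod_eq_one.2 (Fact.out : p.Prime).ne_one] at h
  exact hmod h

/-- J1 is simple. -/
theorem simple_J1 : IsSimpleGroup Spor.J1 := by
  haveI h11 : Fact (Nat.Prime 11) := ⟨by norm_num⟩
  haveI : Nontrivial Spor.J1 := by
    rw [← Finite.one_lt_card_iff_nontrivial, card_J1]; norm_num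
  refine ⟨fun N hN => ?_⟩
  haveI := hN
  rcases eq_or_ne N ⊥ with h | hne
  · exact Or.inl h
  refine Or.inr ?_
  have hZc : Nat.card (Subgroup.zpowers 𝔷) = 11 := by rw [Nat.card_zpowers, orderOf_Z]
  have hconj : ∀ y : Spor.J1, orderOf y = 11 →
      ∃ g : Spor.J1, g * 𝔷 * g⁻¹ ∈ Subgroup.zpowers y := by
    intro y hy
    have hfac : (Nat.card Spor.J1).factorization 11 = 1 := by
      rw [card_J1]
      rw [show (175560 : ℕ) = 11 ^ 1 * 15960 by norm_num,
        Nat.factorization_mul (by norm_num) (by norm_num), Finsupp.add_apply,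
        Nat.Prime.factorization_pow (by norm_num),
        Nat.factorization_eq_zero_of_not_dvd (by norm_num : ¬ 11 ∣ 15960)]
      simp
    let P : Sylow 11 Spor.J1 := Sylow.ofCard (Subgroup.zpowers 𝔷) (by rw [hZc, hfac, pow_one])
    let Q : Sylow 11 Spor.J1 := Sylow.ofCard (Subgroup.zpowers y)
      (by rw [Nat.card_zpowers, hy, hfac, pow_one])
    obtain ⟨g, hg⟩ := MulAction.exists_smul_eq Spor.J1 P Q
    refine ⟨g, ?_⟩
    have : MulAut.conj g • 𝔷 ∈ (g • P : Sylow 11 Spor.J1) :=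
      Subgroup.smul_mem_pointwise_smul _ (MulAut.conj g) _ (Subgroup.mem_zpowers 𝔷)
    rw [hg] at this
    exact this
  by_cases hdvd : 11 ∣ Nat.card N
  · obtain ⟨⟨y, hyN⟩, hy⟩ := exists_prime_orderOf_dvd_card' 11 hdvd
    rw [← Subgroup.orderOf_coe] at hy
    obtain ⟨g, hg⟩ := hconj y hy
    have hz : 𝔷 ∈ N := by
      have h := Subgroup.Normal.conj_mem hN _ ((Subgroup.zpowers_le.2 hyN) hg) g⁻¹
      simpa [mul_assoc] using h
    obtain ⟨c1, h1, r1⟩ := mem_of_conj hz wC1 mC1 (by decide +kernel) (by decide +kernel)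
    obtain ⟨c2, h2, r2⟩ := mem_of_conj hz wC2 mC2 (by decide +kernel) (by decide +kernel)
    obtain ⟨d1, k1, s1⟩ := mem_of_conj hz wD1 mD1 (by decide +kernel) (by decide +kernel)
    obtain ⟨d2, k2, s2⟩ := mem_of_conj hz wD2 mD2 (by decide +kernel) (by decide +kernel)
    have eX : gX = c1 * c2 := rep_X.unique ((r1.mul r2).cast (by decide +kernel))
    have eY : gY = d1 * d2 := rep_Y.unique ((s1.mul s2).cast (by decide +kernel))
    rw [eq_top_iff, ← closure_XY, Subgroup.closure_le]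
    rintro _ (rfl | rfl)
    exacts [eX ▸ mul_mem h1 h2, eY ▸ mul_mem k1 k2]
  exfalso
  have hN1 : Nat.card N ≠ 1 := fun h => hne (Subgroup.eq_bot_of_card_eq N h)
  obtain ⟨q, hq, hqN⟩ := Nat.exists_prime_and_dvd hN1
  haveI : Fact q.Prime := ⟨hq⟩
  obtain ⟨Q₀⟩ : Nonempty (Sylow q N) := Sylow.nonempty
  set Q : Subgroup Spor.J1 := (Q₀ : Subgroup N).map N.subtype with hQ
  have hQN : Q ≤ N := Subgroup.map_subtype_le _
  have hnorm : 11 ∣ Nat.card (Subgroup.normalizer (Q : Set Spor.J1)) := by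
    have htop := Sylow.normalizer_sup_eq_top (N := N) Q₀
    have h := N.card_mul_index
    rcases (Fact.out : Nat.Prime 11).dvd_mul.1
      (show 11 ∣ Nat.card N * N.index by rw [h, card_J1]; norm_num) with h' | h'
    · exact absurd h' hdvd
    · refine h'.trans ?_
      rw [← Subgroup.relIndex_top_right, ← htop, Subgroup.relIndex_sup_right]
      exact Subgroup.relIndex_dvd_card _ _
  obtain ⟨⟨y, hyQ⟩, hy⟩ := exists_prime_orderOf_dvd_card' 11 hnorm
  rw [← Subgroup.orderOf_coe] at hy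
  obtain ⟨g, hg⟩ := hconj y hy
  have hzn : g * 𝔷 * g⁻¹ ∈ Subgroup.normalizer (Q : Set Spor.J1) :=
    Subgroup.zpowers_le.2 hyQ hg
  set w := g * 𝔷 * g⁻¹ with hw
  obtain ⟨k, hk⟩ := (IsPGroup.iff_card (p := q)).1 Q₀.2
  have hQc : Nat.card Q = q ^ k := by
    rw [hQ, Subgroup.card_map_of_injective N.subtype_injective]; exact hk
  have hk0 : 0 < k := by
    refine Nat.pos_of_ne_zero fun h => ?_
    have hdvd' : q ^ (Nat.card N).factorization q = Nat.card Q₀ := (Q₀.card_eq_multiplicity).symm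
    rw [hk, h, pow_zero, Nat.pow_eq_one] at hdvd'
    rcases hdvd' with h' | h'
    · exact hq.ne_one h'
    · exact (hq.factorization_pos_of_dvd Nat.card_pos.ne' hqN).ne' h'
  have hq11 : q ≠ 11 := fun h => hdvd (h ▸ hqN)
  have hworder : orderOf w = 11 := by
    rw [hw, show g * 𝔷 * g⁻¹ = MulAut.conj g 𝔷 from rfl, MulEquiv.orderOf_eq, orderOf_Z]
  have hQdvd : Nat.card Q ∣ 175560 := card_J1 ▸ Subgroup.card_subgroup_dvd_card Q
  obtain ⟨x, hxQ, hx1, hxw⟩ := exists_commute_of_normalizes hworder hzn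
    (not_one_mod hQdvd hq hk0 hQc hq11)
  have hcomm : (g⁻¹ * x * g) * 𝔷 = 𝔷 * (g⁻¹ * x * g) := by
    calc (g⁻¹ * x * g) * 𝔷 = g⁻¹ * (x * w) * g := by rw [hw]; group
      _ = g⁻¹ * (w * x) * g := by rw [hxw]
      _ = 𝔷 * (g⁻¹ * x * g) := by rw [hw]; group
  have hord : orderOf (g⁻¹ * x * g) ∣ 11 :=
    (Subgroup.orderOf_dvd_natCard _ (centralizer_Z hcomm)).trans (dvd_of_eq hZc)
  have hord' : orderOf x ∣ q ^ k := hQc ▸ Subgroup.orderOf_dvd_natCard _ hxQ
  rw [show g⁻¹ * x * g = MulAut.conj g⁻¹ x by simp, MulEquiv.orderOf_eq] at hord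
  exact hx1 (orderOf_eq_one_iff.1 (Nat.eq_one_of_dvd_coprimes
    (Nat.Coprime.pow_right k ((Nat.coprime_primes (by norm_num) hq).2 hq11.symm)) hord hord'))

end Cfsg.Agent.H10.J1
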